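import Cfsg.Agent.Lib.RankTwoBlock.Mono

/-!
# Weight idempotents of an abelian normal subgroup

Either the subgroup is scalar, or its weight idempotents give monomial data.
-/

set_option autoImplicit false

open Module

namespace Cfsg.Agent.Lib.RankTwoBlock

universe u v

variable {G : Type v} [Group G] {W : Type u} [AddCommGroup W] [Module (ZMod 3) W]
  {σ : G →* Module.End (ZMod 3) W}

/-- The algebra spanned by the images of `A`. -/
def alg (σ : G →* Module.End (ZMod 3) W) (A : Subgroup G) :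
    Subalgebra (ZMod 3) (Module.End (ZMod 3) W) :=
  Algebra.adjoin (ZMod 3) (σ '' (A : Set G))

/-- Primitive idempotents of a subalgebra. -/
structure IsAtomOf (S : Subalgebra (ZMod 3) (Module.End (ZMod 3) W))
    (e : Module.End (ZMod 3) W) : Prop where
  mem : e ∈ S
  idem : e * e = e
  ne : e ≠ 0
  min : ∀ f ∈ S, f * f = f → e * f = 0 ∨ e * f = e

theorem mem_range_iff_of_idem {e : Module.End (ZMod 3) W} (he : e * e = e) {x : W} :
    x ∈ LinearMap.range e ↔ e x = x := by
  refine ⟨?_, fun h => ⟨x, h⟩⟩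
  rintro ⟨y, rfl⟩
  rw [← Module.End.mul_apply, he]

theorem zmod3_cases (c : ZMod 3) (hc : c ≠ 0) : c = 1 ∨ c = -1 := by
  revert hc; revert c; decide

theorem apply_units_smul {F : W →ₗ[ZMod 3] W} (s : ℤˣ) (x : W) : F (s • x) = s • F x := by
  rcases Int.units_eq_one_or s with rfl | rfl <;> simp

theorem units_smul_cancel {x : W} (hx : x ≠ 0) {s t : ℤˣ} (h : s • x = t • x) : s = t := by
  rcases Int.units_eq_one_or s with rfl | rfl <;> rcases Int.units_eq_one_or t with rfl | rfl <;>
    simp only [one_smul, Units.neg_smul] at h ⊢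
  · exact absurd (eq_zero_of_double ((eq_neg_iff_add_eq_zero.mp h))) hx
  · exact absurd (eq_zero_of_double ((neg_eq_iff_add_eq_zero.mp h))) hx

variable {A : Subgroup G} (hc : ∀ a ∈ A, ∀ a' ∈ A, a * a' = a' * a)

theorem commute_alg {x : Module.End (ZMod 3) W} (hx : ∀ a ∈ A, Commute x (σ a))
    {y : Module.End (ZMod 3) W} (hy : y ∈ alg σ A) : Commute x y := by
  induction hy using Algebra.adjoin_induction with
  | mem y hy => obtain ⟨a, ha, rfl⟩ := hy; exact hx a ha
  | algebraMap c => exact (Algebra.commutes c x).symm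
  | add y z _ _ hy hz => exact hy.add_right hz
  | mul y z _ _ hy hz => exact hy.mul_right hz

include hc

theorem alg_comm {x y : Module.End (ZMod 3) W} (hx : x ∈ alg σ A) (hy : y ∈ alg σ A) :
    x * y = y * x :=
  (commute_alg (fun a ha => ((commute_alg (x := σ a) (fun a' ha' => by
    show σ a * σ a' = σ a' * σ a
    rw [← map_mul, ← map_mul, hc a ha a' ha']) hx)).symm) hy).eq

omit hc in
theorem sigma_mem {a : G} (ha : a ∈ A) : σ a ∈ alg σ A :=
  Algebra.subset_adjoin ⟨a, ha, rfl⟩

section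

variable [FiniteDimensional (ZMod 3) W]

theorem exists_atom_le {e : Module.End (ZMod 3) W} (he : e ∈ alg σ A) (hi : e * e = e)
    (h0 : e ≠ 0) : ∃ f, IsAtomOf (alg σ A) f ∧ e * f = f := by
  induction hn : finrank (ZMod 3) (LinearMap.range e) using Nat.strong_induction_on generalizing e
    with
  | _ n ih =>
    by_cases hat : ∀ f ∈ alg σ A, f * f = f → e * f = 0 ∨ e * f = e
    · exact ⟨e, ⟨he, hi, h0, hat⟩, hi⟩
    push Not at hat
    obtain ⟨f, hf, hfi, hf0, hfe⟩ := hat
    have hg : e * f * (e * f) = e * f := by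
      rw [mul_assoc, ← mul_assoc f, ← alg_comm hc he hf, mul_assoc e f f, hfi, ← mul_assoc, hi]
    have heg : e * (e * f) = e * f := by rw [← mul_assoc, hi]
    have hlt : LinearMap.range (e * f) < LinearMap.range e := by
      refine lt_of_le_of_ne (LinearMap.range_comp_le_range f e) fun heq => hfe ?_
      refine LinearMap.ext fun x => ?_
      have : e x ∈ LinearMap.range (e * f) := heq ▸ LinearMap.mem_range_self e x
      rw [mem_range_iff_of_idem hg] at this
      rw [← this, ← Module.End.mul_apply, mul_assoc, ← alg_comm hc he hf, ← mul_assoc, hi]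
    obtain ⟨g, hg1, hg2⟩ := ih _ (hn ▸ Submodule.finrank_lt_finrank_of_lt hlt) (mul_mem he hf) hg
      hf0 rfl
    exact ⟨g, hg1, by rw [← hg2, ← mul_assoc, heg]⟩

omit [FiniteDimensional (ZMod 3) W] in
theorem atom_mul_eq_zero {e f : Module.End (ZMod 3) W} (he : IsAtomOf (alg σ A) e)
    (hf : IsAtomOf (alg σ A) f) (hne : e ≠ f) : e * f = 0 := by
  rcases he.min f hf.mem hf.idem with h | h
  · exact h
  rcases hf.min e he.mem he.idem with h' | h'
  · rw [alg_comm hc he.mem hf.mem, h']
  · exact absurd (by rw [← h, alg_comm hc he.mem hf.mem, h']) hne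

omit [FiniteDimensional (ZMod 3) W] in
theorem isIdempotent_sum {T : Finset (Module.End (ZMod 3) W)}
    (hT : ∀ e ∈ T, IsAtomOf (alg σ A) e) {e : Module.End (ZMod 3) W}
    (he : IsAtomOf (alg σ A) e) :
    (e ∈ T → e * ∑ f ∈ T, f = e) ∧ (e ∉ T → e * ∑ f ∈ T, f = 0) := by
  classical
  constructor
  · intro hm
    rw [Finset.mul_sum, Finset.sum_eq_single e (fun f hf hne => atom_mul_eq_zero hc he (hT f hf)
      (Ne.symm hne)) (fun h => absurd hm h), he.idem]
  · intro hm
    rw [Finset.mul_sum]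
    exact Finset.sum_eq_zero fun f hf => atom_mul_eq_zero hc he (hT f hf) fun h => hm (h ▸ hf)

/-- The atoms sum to one. -/
theorem sum_atoms (T : Finset (Module.End (ZMod 3) W))
    (hT : ∀ e, e ∈ T ↔ IsAtomOf (alg σ A) e) : ∑ e ∈ T, e = 1 := by
  set s := ∑ e ∈ T, e with hs
  have hsm : s ∈ alg σ A := sum_mem fun e he => ((hT e).mp he).mem
  have hsi : s * s = s := by
    conv_lhs => rw [hs, Finset.sum_mul]
    exact Finset.sum_congr rfl fun e he =>
      (isIdempotent_sum hc (fun f hf => (hT f).mp hf) ((hT e).mp he)).1 he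
  by_contra hne
  obtain ⟨f, hf, hf'⟩ := exists_atom_le hc (sub_mem (one_mem _) hsm)
    (by rw [mul_sub, mul_one, sub_mul, one_mul, hsi, sub_self, sub_zero])
    (sub_ne_zero.mpr (Ne.symm hne))
  rw [sub_mul, one_mul, sub_eq_self, alg_comm hc hsm hf.mem,
    (isIdempotent_sum hc (fun f hf => (hT f).mp hf) hf).1 ((hT f).mpr hf)] at hf'
  exact hf.ne hf'

end

/-- In the algebra of an abelian group of order prime to three every element is a root of unity or
zero. -/
theorem alg_pow [Nontrivial W] [Finite A] (hA : ¬ 3 ∣ Nat.card A) :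
    ∃ N : ℕ, 3 ≤ N ∧ ∀ x ∈ alg σ A, x ^ N = x := by
  haveI : CharP (Module.End (ZMod 3) W) 3 :=
    charP_of_injective_algebraMap (algebraMap (ZMod 3) (Module.End (ZMod 3) W)).injective 3
  haveI : Fact (Nat.Prime 3) := ⟨Nat.prime_three⟩
  have hm : 0 < Nat.card A := Nat.card_pos
  set k := Nat.totient (Nat.card A) with hk
  have hk0 : 0 < k := Nat.totient_pos.mpr hm
  refine ⟨3 ^ k, by simpa using Nat.pow_le_pow_right (by norm_num : 0 < 3) hk0, fun x hx => ?_⟩
  induction hx using Algebra.adjoin_induction with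
  | mem x hx =>
    obtain ⟨a, ha, rfl⟩ := hx
    have h2 : Nat.ModEq (Nat.card A) (3 ^ k) 1 :=
      Nat.ModEq.pow_totient ((Nat.prime_three.coprime_iff_not_dvd).mpr hA)
    rw [← map_pow]
    congr 1
    conv_rhs => rw [← pow_one a]
    exact pow_eq_pow_iff_modEq.mpr (h2.of_dvd (Subgroup.orderOf_dvd_natCard A ha))
  | algebraMap c => rw [← map_pow, ZMod.pow_card_pow]
  | add x y hx' hy' hx hy =>
    rw [add_pow_char_pow_of_commute 3 k (alg_comm hc hx' hy'), hx, hy]
  | mul x y hx' hy' hx hy => rw [Commute.mul_pow (alg_comm hc hx' hy'), hx, hy]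

/-- Conjugation by the group. -/
def cj (σ : G →* Module.End (ZMod 3) W) (g : G) (x : Module.End (ZMod 3) W) :
    Module.End (ZMod 3) W :=
  σ g * x * σ g⁻¹

omit hc

theorem cj_mul_left (g k : G) (x : Module.End (ZMod 3) W) : cj σ (g * k) x = cj σ g (cj σ k x) := by
  simp only [cj, map_mul, mul_inv_rev, mul_assoc]

theorem cj_one (x : Module.End (ZMod 3) W) : cj σ 1 x = x := by simp [cj]

theorem cj_inv_cancel (g : G) (x : Module.End (ZMod 3) W) : cj σ g⁻¹ (cj σ g x) = x := by
  rw [← cj_mul_left, inv_mul_cancel, cj_one]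

theorem cj_cancel_inv (g : G) (x : Module.End (ZMod 3) W) : cj σ g (cj σ g⁻¹ x) = x := by
  rw [← cj_mul_left, mul_inv_cancel, cj_one]

theorem sigma_inv_mul (g : G) : σ g⁻¹ * σ g = 1 := by rw [← map_mul, inv_mul_cancel, map_one]

theorem sigma_mul_inv (g : G) : σ g * σ g⁻¹ = 1 := by rw [← map_mul, mul_inv_cancel, map_one]

theorem cj_mul (g : G) (x y : Module.End (ZMod 3) W) :
    cj σ g (x * y) = cj σ g x * cj σ g y := by
  simp only [cj, mul_assoc]
  rw [← mul_assoc (σ g⁻¹) (σ g), sigma_inv_mul, one_mul]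

theorem cj_mem [A.Normal] (g : G) {x : Module.End (ZMod 3) W} (hx : x ∈ alg σ A) :
    cj σ g x ∈ alg σ A := by
  induction hx using Algebra.adjoin_induction with
  | mem x hx =>
    obtain ⟨a, ha, rfl⟩ := hx
    rw [show cj σ g (σ a) = σ (g * a * g⁻¹) by simp [cj, mul_assoc]]
    exact sigma_mem (Subgroup.Normal.conj_mem ‹_› a ha g)
  | algebraMap c =>
    rw [cj, ← Algebra.commutes, mul_assoc, sigma_mul_inv, mul_one]
    exact Subalgebra.algebraMap_mem _ c
  | add x y _ _ hx hy => rw [cj, mul_add, add_mul]; exact add_mem hx hy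
  | mul x y _ _ hx hy => rw [cj_mul]; exact mul_mem hx hy

theorem cj_atom [A.Normal] (g : G) {e : Module.End (ZMod 3) W} (he : IsAtomOf (alg σ A) e) :
    IsAtomOf (alg σ A) (cj σ g e) where
  mem := cj_mem g he.mem
  idem := by rw [← cj_mul, he.idem]
  ne h := he.ne (by rw [← cj_inv_cancel (σ := σ) g e, h, cj, mul_zero, zero_mul])
  min f hf hfi := by
    have e1 : cj σ g e * f = cj σ g (e * cj σ g⁻¹ f) := by rw [cj_mul, cj_cancel_inv]
    rcases he.min _ (cj_mem g⁻¹ hf) (by rw [← cj_mul, hfi]) with h | h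
    · left; rw [e1, h, cj, mul_zero, zero_mul]
    · right; rw [e1, h]

theorem commute_of_cj_eq {g : G} {e : Module.End (ZMod 3) W} (h : cj σ g e = e) :
    σ g * e = e * σ g := by
  conv_rhs => rw [← h, cj, mul_assoc, sigma_inv_mul, mul_one]

theorem cj_apply (g : G) (e : Module.End (ZMod 3) W) (x : W) :
    cj σ g e (σ g x) = σ g (e x) := by
  simp [cj, Module.End.mul_apply, inv_apply_apply]

/-- An idempotent commuting with the whole group is trivial. -/
theorem idem_eq_one {R : Subgroup G} {b q : G} (h : Setup σ R b q) {e : Module.End (ZMod 3) W}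
    (hi : e * e = e) (h0 : e ≠ 0) (hcom : ∀ g, σ g * e = e * σ g) : e = 1 := by
  rcases h.irred (LinearMap.range e) (fun g v hv => by
    rw [mem_range_iff_of_idem hi] at hv ⊢
    rw [← Module.End.mul_apply, ← hcom, Module.End.mul_apply, hv]) with hb | ht
  · exact absurd (LinearMap.range_eq_bot.mp hb) h0
  · refine LinearMap.ext fun x => ?_
    exact (mem_range_iff_of_idem hi).mp (ht ▸ Submodule.mem_top)

/-- A vector space fixed pointwise by all squares is everything. -/
theorem sq_eq_one {R : Subgroup G} {b q : G} (h : Setup σ R b q) [A.Normal] {x : W} (hx : x ≠ 0)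
    (hfix : ∀ a ∈ A, σ (a * a) x = x) {a : G} (ha : a ∈ A) : a * a = 1 := by
  let U : Submodule (ZMod 3) W := ⨅ a : A, LinearMap.ker (σ ((a : G) * a) - 1)
  have memU : ∀ v, v ∈ U ↔ ∀ a ∈ A, σ (a * a) v = v := fun v => by
    simp only [U, Submodule.mem_iInf, LinearMap.mem_ker, LinearMap.sub_apply, Module.End.one_apply,
      sub_eq_zero, Subtype.forall]
  rcases h.irred U (fun g v hv => by
    rw [memU] at hv ⊢
    intro a ha
    have e := hv (g⁻¹ * a * g) (by simpa using Subgroup.Normal.conj_mem ‹_› a ha g⁻¹)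
    rw [← Module.End.mul_apply, ← map_mul,
      show a * a * g = g * (g⁻¹ * a * g * (g⁻¹ * a * g)) by group, map_mul, Module.End.mul_apply, e])
    with hb | ht
  · exact absurd ((Submodule.mem_bot (ZMod 3)).mp (hb ▸ (memU x).mpr hfix)) hx
  · exact h.faith (LinearMap.ext fun v => by
      rw [map_one, Module.End.one_apply]
      exact (memU v).mp (ht ▸ Submodule.mem_top) a ha)

end Cfsg.Agent.Lib.RankTwoBlock
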