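import Cfsg.Agent.Lib.RankTwoBlock.Atoms

/-!
# An abelian normal subgroup is scalar or gives monomial data
-/

set_option autoImplicit false

open Module
open scoped commutatorElement

namespace Cfsg.Agent.Lib.RankTwoBlock

universe u v

variable {G : Type v} [Group G] {W : Type u} [AddCommGroup W] [Module (ZMod 3) W]
  [FiniteDimensional (ZMod 3) W] {σ : G →* Module.End (ZMod 3) W} {A R : Subgroup G} {b q : G}

/-- An automorphism group of a cyclic group is commutative. -/
theorem mulAut_comm {C : Type*} [Group C] [IsCyclic C] (φ ψ : MulAut C) : φ * ψ = ψ * φ := by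
  obtain ⟨x, hx⟩ := IsCyclic.exists_generator (α := C)
  obtain ⟨m, hm⟩ := hx (φ x)
  obtain ⟨n, hn⟩ := hx (ψ x)
  refine MulEquiv.ext fun y => ?_
  obtain ⟨l, rfl⟩ := hx y
  simp only [MulAut.mul_apply, map_zpow]
  simp only at hm hn
  simp only [← hm, ← hn, map_zpow, ← zpow_mul]
  congr 1
  ring

/-- All atoms fixed by `b`: the subgroup is scalar. -/
theorem scalar_of_fixed (h : Setup σ R b q) [A.Normal] (hAR : A ≤ R)
    (hc : ∀ a ∈ A, ∀ a' ∈ A, a * a' = a' * a)
    (hfix : ∀ e, IsAtomOf (alg σ A) e → cj σ b e = e) {a : G} (ha : a ∈ A) :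
    σ a = 1 ∨ σ a = -1 := by
  haveI := h.nontrivial
  haveI := h.finite
  -- every atom is fixed by the whole group
  let C : Subgroup G :=
    { carrier := {g | ∀ e, IsAtomOf (alg σ A) e → cj σ g e = e}
      mul_mem' := fun hg hk e he => by rw [cj_mul_left, hk e he, hg e he]
      one_mem' := fun e _ => cj_one e
      inv_mem' := fun {g} hg e he => by
        conv_lhs => rw [← hg e he]
        exact cj_inv_cancel g e }
  haveI : C.Normal := ⟨fun c hc' g e he => by
    rw [cj_mul_left, cj_mul_left, hc' _ (cj_atom g⁻¹ he), cj_cancel_inv]⟩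
  have hall : ∀ g, g ∈ C := fun g => by
    have : R ⊔ Subgroup.zpowers b ≤ C :=
      sup_le (h.le_of_conj_mem C hfix) (Subgroup.zpowers_le.mpr hfix)
    exact this (h.gen ▸ Subgroup.mem_top g)
  have hone : ∀ e, IsAtomOf (alg σ A) e → e = 1 := fun e he =>
    idem_eq_one h he.idem he.ne fun g => commute_of_cj_eq (hall g e he)
  obtain ⟨N, hN3, hN⟩ := alg_pow hc (σ := σ) (fun h3 => h.coprime (h3.trans
    (Subgroup.card_dvd_of_le hAR)))
  -- nonzero elements are units
  have hunit : ∀ x ∈ alg σ A, x ≠ 0 → x ^ (N - 1) = 1 := by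
    intro x hx hx0
    have hy : x ^ (N - 1) * x ^ (N - 1) = x ^ (N - 1) := by
      rw [← pow_add, show N - 1 + (N - 1) = N + (N - 2) by omega, pow_add, hN x hx, ← pow_succ']
      congr 1; omega
    have hy0 : x ^ (N - 1) ≠ 0 := fun e => hx0 (by
      rw [← hN x hx, show N = N - 1 + 1 by omega, pow_succ, e, zero_mul])
    obtain ⟨f, hf, hf'⟩ := exists_atom_le hc (pow_mem hx (N - 1)) hy hy0
    rw [hone f hf, mul_one] at hf'
    exact hf'
  haveI : NoZeroDivisors ↥(alg σ A) := ⟨fun {x y} hxy => by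
    by_contra hne
    push Not at hne
    refine hne.2 (Subtype.ext ?_)
    have e := congrArg Subtype.val hxy
    simp only [MulMemClass.coe_mul, ZeroMemClass.coe_zero] at e ⊢
    have := hunit x x.2 fun e => hne.1 (Subtype.ext e)
    rw [show N - 1 = N - 2 + 1 by omega, pow_succ] at this
    rw [← one_mul (y : Module.End (ZMod 3) W), ← this, mul_assoc, e, mul_zero]⟩
  letI : CommRing ↥(alg σ A) :=
    { (inferInstance : Ring ↥(alg σ A)) with
      mul_comm := fun x y => Subtype.ext (alg_comm hc x.2 y.2) }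
  haveI : IsDomain ↥(alg σ A) := NoZeroDivisors.to_isDomain _
  haveI : IsCyclic A := isCyclic_of_injective_ringHom
    ({ toFun := fun x => ⟨σ (x : G), sigma_mem x.2⟩
       map_one' := Subtype.ext (map_one σ)
       map_mul' := fun x y => Subtype.ext (map_mul σ (x : G) (y : G)) } : A →* ↥(alg σ A))
    (fun x y e => Subtype.ext (h.faith (congrArg Subtype.val e)))
  -- `R` centralises `A`
  have hker : R ≤ (MulAut.conjNormal : G →* MulAut A).ker := by
    rw [← h.comm]
    refine Subgroup.commutator_le.mpr fun x _ y _ => ?_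
    rw [MonoidHom.mem_ker, map_commutatorElement, commutatorElement_eq_one_iff_mul_comm]
    exact mulAut_comm _ _
  have hRc : ∀ r ∈ R, ∀ a ∈ A, r * a = a * r := by
    intro r hr a ha
    have e := congrArg (fun φ : MulAut A => ((φ ⟨a, ha⟩ : A) : G)) (MonoidHom.mem_ker.mp (hker hr))
    simp only [MulAut.conjNormal_apply, MulAut.one_apply] at e
    exact mul_inv_eq_iff_eq_mul.mp e
  -- the line of the four-group
  obtain ⟨hl, -⟩ := h.block.orbit _ (Four.line_ind h.four h.block)
    (Four.line_ne_bot h.four h.block h.sigma_q_ne_one)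
  obtain ⟨u, hu0, hu⟩ := finrank_eq_one_iff'.mp hl
  have hu0' : (u : W) ≠ 0 := fun e => hu0 (Subtype.ext e)
  have hsq : ∀ a ∈ A, σ (a * a) (u : W) = (u : W) := by
    intro a ha
    have hcomm : ∀ r ∈ R, σ r (σ a u) = σ a (σ r u) := fun r hr => by
      rw [← Module.End.mul_apply, ← map_mul, hRc r hr a ha, map_mul, Module.End.mul_apply]
    have hmem : σ a (u : W) ∈ Four.line (σ q) (σ (b * q * b⁻¹)) :=
      ⟨by rw [hcomm q h.q_mem, u.2.1], by rw [hcomm _ h.qconj_mem, u.2.2, map_neg]⟩
    obtain ⟨c, hc'⟩ := hu ⟨_, hmem⟩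
    have hc'' : c • (u : W) = σ a u := congrArg Subtype.val hc'
    have hc0 : c ≠ 0 := fun e => hu0' (sigma_injective σ a (by rw [← hc'', e, zero_smul, map_zero]))
    rw [map_mul, Module.End.mul_apply, ← hc'', map_smul, ← hc'', smul_smul]
    rcases zmod3_cases c hc0 with rfl | rfl <;> simp
  have hexp : ∀ a ∈ A, a * a = 1 := fun a ha => sq_eq_one h hu0' hsq ha
  -- `A` has at most one involution, which is central
  have hcent : ∀ g, σ g * σ a = σ a * σ g := by
    obtain ⟨x, hx⟩ := IsCyclic.exists_generator (α := A)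
    have htwo : ∀ y : A, y = 1 ∨ y = x := by
      intro y
      obtain ⟨k, rfl⟩ := hx y
      have hx2 : x ^ (2 : ℤ) = 1 := by
        rw [zpow_two]; exact Subtype.ext (hexp _ x.2)
      rcases Int.even_or_odd' k with ⟨m, rfl | rfl⟩
      · exact Or.inl (by show x ^ (2 * m) = 1; rw [zpow_mul, hx2, one_zpow])
      · exact Or.inr (by show x ^ (2 * m + 1) = x; rw [zpow_add, zpow_mul, hx2, one_zpow,
          one_mul, zpow_one])
    intro g
    have hga : g * a * g⁻¹ ∈ A := Subgroup.Normal.conj_mem ‹_› a ha g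
    have e : g * a * g⁻¹ = a := by
      rcases htwo ⟨a, ha⟩ with h1 | h1 <;> rcases htwo ⟨_, hga⟩ with h2 | h2
      · exact congrArg Subtype.val (h2.trans h1.symm)
      · simp only [Subtype.ext_iff, OneMemClass.coe_one] at h1; simp [h1]
      · simp only [Subtype.ext_iff, OneMemClass.coe_one] at h2
        have : a = 1 := by simpa using h2
        simp [this]
      · exact congrArg Subtype.val (h2.trans h1.symm)
    rw [← map_mul, ← map_mul, ← mul_inv_eq_iff_eq_mul.mp e]
  rcases h.irred (LinearMap.ker (σ a - 1)) (fun g v hv => by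
    rw [LinearMap.mem_ker, LinearMap.sub_apply, Module.End.one_apply, sub_eq_zero] at hv ⊢
    rw [← Module.End.mul_apply, ← hcent, Module.End.mul_apply, hv]) with hb | ht
  · refine Or.inr (LinearMap.ext fun v => ?_)
    have : σ a v + v ∈ LinearMap.ker (σ a - 1) := by
      rw [LinearMap.mem_ker, LinearMap.sub_apply, Module.End.one_apply, map_add,
        ← Module.End.mul_apply, ← map_mul, hexp a ha, map_one, Module.End.one_apply, add_comm v,
        sub_self]
    rw [hb, Submodule.mem_bot] at this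
    rw [LinearMap.neg_apply, Module.End.one_apply]
    exact eq_neg_of_add_eq_zero_left this
  · exact Or.inl (sub_eq_zero.mp (LinearMap.ker_eq_top.mp ht))

/-- A moved atom gives monomial data. -/
theorem mono_of_moved (h : Setup σ R b q) [A.Normal]
    (hAR : A ≤ R) (hc : ∀ a ∈ A, ∀ a' ∈ A, a * a' = a' * a)
    {e : Module.End (ZMod 3) W} (he : IsAtomOf (alg σ A) e) (hmv : cj σ b e ≠ e) :
    ∃ (Ω : Type u) (_ : Fintype Ω), Nonempty (Mono R b Ω) ∧ 3 ≤ Fintype.card Ω := by
  classical
  haveI : Finite W := Module.finite_of_finite (ZMod 3)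
  haveI : Finite (Module.End (ZMod 3) W) := Finite.of_injective _ DFunLike.coe_injective
  set β := σ b with hβ
  have hbb : ∀ x, cj σ b (cj σ b (cj σ b x)) = x := fun x => by
    rw [← cj_mul_left, ← cj_mul_left, mul_assoc, ← pow_three, h.b_cube, cj_one]
  -- orbit data of a moved atom
  have horb : ∀ f, IsAtomOf (alg σ A) f → cj σ b f ≠ f →
      finrank (ZMod 3) (LinearMap.range f) = 1 ∧
      ∀ x ∈ LinearMap.range (β - 1), (f + cj σ b f + cj σ b (cj σ b f)) x = x := by
    intro f hf hfm
    set f1 := cj σ b f with hf1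
    set f2 := cj σ b f1 with hf2
    have a1 := cj_atom b hf
    have a2 := cj_atom b a1
    have hinj : ∀ {x y}, cj σ b x = cj σ b y → x = y := fun {x y} e => by
      rw [← cj_inv_cancel (σ := σ) b x, e, cj_inv_cancel]
    have n10 : f1 ≠ f := hfm
    have n21 : f2 ≠ f1 := fun e => hfm (hinj e)
    have n20 : f2 ≠ f := fun e => hfm (by
      conv_rhs => rw [← hbb f]
      rw [← hf1, ← hf2, e])
    have z01 := atom_mul_eq_zero hc hf a1 n10.symm
    have z02 := atom_mul_eq_zero hc hf a2 n20.symm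
    have z10 := atom_mul_eq_zero hc a1 hf n10
    have z12 := atom_mul_eq_zero hc a1 a2 n21.symm
    have z20 := atom_mul_eq_zero hc a2 hf n20
    have z21 := atom_mul_eq_zero hc a2 a1 n21
    have r1 : ∀ v, f v = v → f1 (β v) = β v := fun v hv => by rw [hf1, hβ, cj_apply, hv]
    have r2 : ∀ v, f v = v → f2 (β (β v)) = β (β v) := fun v hv => by
      rw [hf2, hβ, cj_apply, ← hβ, r1 v hv]
    have hz : ∀ {x y : Module.End (ZMod 3) W}, x * y = 0 → ∀ v, y v = v → x v = 0 :=
      fun {x y} hxy v hv => by rw [← hv, ← Module.End.mul_apply, hxy, LinearMap.zero_apply]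
    have hU : LinearMap.range f ≠ ⊥ := fun e => hf.ne (LinearMap.range_eq_bot.mp e)
    obtain ⟨hd, hle⟩ := h.block.orbit (LinearMap.range f) (fun u hu v hv w hw e => by
      rw [mem_range_iff_of_idem hf.idem] at hu hv hw
      have e0 := congrArg f e
      rw [map_add, map_add, map_zero, hu, hz z01 _ (r1 v hv), hz z02 _ (r2 w hw), add_zero,
        add_zero] at e0
      have e1 := congrArg f1 e
      rw [map_add, map_add, map_zero, hz z10 _ hu, r1 v hv, hz z12 _ (r2 w hw), add_zero,
        zero_add] at e1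
      rw [e0, e1, add_zero, zero_add] at e
      exact ⟨e0, h.block.injective (e1.trans (map_zero β).symm),
        h.block.injective ((h.block.injective (e.trans (map_zero β).symm)).trans
          (map_zero β).symm)⟩) hU
    refine ⟨hd, fun x hx => ?_⟩
    obtain ⟨p, hp, _, hm, rfl⟩ := Submodule.mem_sup.mp (hle hx)
    obtain ⟨u, hu, _, hm', rfl⟩ := Submodule.mem_sup.mp hp
    obtain ⟨v, hv, rfl⟩ := Submodule.mem_map.mp hm'
    obtain ⟨_, ⟨w, hw, rfl⟩, rfl⟩ := Submodule.mem_map.mp hm
    rw [SetLike.mem_coe, mem_range_iff_of_idem hf.idem] at hw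
    rw [mem_range_iff_of_idem hf.idem] at hu hv
    simp only [LinearMap.add_apply, map_add]
    rw [hu, hz z10 _ hu, hz z20 _ hu, hz z01 _ (r1 v hv), r1 v hv, hz z21 _ (r1 v hv),
      hz z02 _ (r2 w hw), hz z12 _ (r2 w hw), r2 w hw]
    abel
  -- the group acts on atoms
  let Ω := {f : Module.End (ZMod 3) W // IsAtomOf (alg σ A) f}
  haveI : Finite Ω := Subtype.finite
  haveI : Fintype Ω := Fintype.ofFinite Ω
  let π : G →* Equiv.Perm Ω :=
    { toFun := fun g =>
        { toFun := fun f => ⟨cj σ g f.1, cj_atom g f.2⟩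
          invFun := fun f => ⟨cj σ g⁻¹ f.1, cj_atom g⁻¹ f.2⟩
          left_inv := fun f => Subtype.ext (cj_inv_cancel g f.1)
          right_inv := fun f => Subtype.ext (cj_cancel_inv g f.1) }
      map_one' := Equiv.ext fun f => Subtype.ext (cj_one f.1)
      map_mul' := fun g k => Equiv.ext fun f => Subtype.ext (cj_mul_left g k f.1) }
  let a : Ω := ⟨e, he⟩
  have hsum : ∑ f : Ω, (f : Module.End (ZMod 3) W) = 1 := by
    have := sum_atoms hc ((Finset.univ : Finset Ω).map (Function.Embedding.subtype _)) (σ := σ)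
      fun f => ⟨fun hf => by
        obtain ⟨x, -, rfl⟩ := Finset.mem_map.mp hf
        exact x.2, fun hf => Finset.mem_map.mpr ⟨⟨f, hf⟩, Finset.mem_univ _, rfl⟩⟩
    rw [Finset.sum_map] at this
    exact this
  have trans' : ∀ x : Ω, ∃ g, π g a = x := by
    intro x
    set O : Finset Ω := Finset.univ.filter fun y => ∃ g, π g a = y with hO
    set s := ∑ y ∈ O, (y : Module.End (ZMod 3) W) with hs
    have hOT : ∀ f ∈ O.map (Function.Embedding.subtype _), IsAtomOf (alg σ A) f := fun f hf => by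
      obtain ⟨y, -, rfl⟩ := Finset.mem_map.mp hf
      exact y.2
    have hsO : ∑ f ∈ O.map (Function.Embedding.subtype _), f = s := Finset.sum_map _ _ _
    have hmul : ∀ y : Ω, (y ∈ O → (y : Module.End (ZMod 3) W) * s = y) ∧
        (y ∉ O → (y : Module.End (ZMod 3) W) * s = 0) := fun y => by
      refine ⟨fun hy => ?_, fun hy => ?_⟩
      · rw [← hsO]
        exact (isIdempotent_sum hc hOT y.2).1 (Finset.mem_map.mpr ⟨y, hy, rfl⟩)
      · rw [← hsO]
        refine (isIdempotent_sum hc hOT y.2).2 fun hm => hy ?_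
        obtain ⟨z, hz, hz'⟩ := Finset.mem_map.mp hm
        rwa [← Subtype.ext hz']
    have hsi : s * s = s := by
      conv_lhs => rw [hs, Finset.sum_mul]
      exact Finset.sum_congr rfl fun y hy => (hmul y).1 hy
    have haO : a ∈ O := by rw [hO, Finset.mem_filter]; exact ⟨Finset.mem_univ _, 1, by simp⟩
    have hs0 : s ≠ 0 := fun e0 => he.ne (by
      have := (hmul a).1 haO
      rw [e0, mul_zero] at this
      exact this.symm)
    have hs1 : s = 1 := idem_eq_one h hsi hs0 fun g => by
      refine commute_of_cj_eq ?_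
      have : cj σ g s = ∑ y ∈ O, ((π g y : Ω) : Module.End (ZMod 3) W) := by
        simp only [hs, cj, Finset.mul_sum, Finset.sum_mul]
        rfl
      rw [this]
      refine Finset.sum_equiv (π g) (fun y => ?_) (fun y _ => rfl)
      simp only [hO, Finset.mem_filter, Finset.mem_univ, true_and]
      exact ⟨fun ⟨k, hk⟩ => ⟨g * k, by rw [map_mul, Equiv.Perm.mul_apply, hk]⟩,
        fun ⟨k, hk⟩ => ⟨g⁻¹ * k, by
          rw [map_mul, Equiv.Perm.mul_apply, hk, ← Equiv.Perm.mul_apply, ← map_mul,
            inv_mul_cancel, map_one, Equiv.Perm.one_apply]⟩⟩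
    by_contra hx
    have := (hmul x).2 fun hm => hx ((Finset.mem_filter.mp hm).2)
    rw [hs1, mul_one] at this
    exact x.2.ne this
  have hline : ∀ f : Ω, finrank (ZMod 3) (LinearMap.range f.1) = 1 := by
    intro f
    obtain ⟨g, rfl⟩ := trans' f
    refine le_antisymm ?_ ?_
    · rw [show ((π g a : Ω) : Module.End (ZMod 3) W) = σ g * e * σ g⁻¹ from rfl]
      calc finrank (ZMod 3) (LinearMap.range (σ g * e * σ g⁻¹))
          ≤ finrank (ZMod 3) ((LinearMap.range e).map (σ g)) := Submodule.finrank_mono (by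
            rintro _ ⟨y, rfl⟩
            exact ⟨_, ⟨σ g⁻¹ y, rfl⟩, rfl⟩)
        _ ≤ finrank (ZMod 3) (LinearMap.range e) := Submodule.finrank_map_le _ _
        _ = 1 := (horb e he hmv).1
    · rw [Nat.one_le_iff_ne_zero, Ne, Submodule.finrank_eq_zero]
      exact fun hb => (π g a).2.ne (LinearMap.range_eq_bot.mp hb)
  choose w hw0 hw using fun f => finrank_eq_one_iff'.mp (hline f)
  have hwne : ∀ f, (w f : W) ≠ 0 := fun f e => hw0 f (Subtype.ext e)
  have hwf : ∀ f : Ω, f.1 (w f : W) = w f := fun f => (mem_range_iff_of_idem f.2.idem).mp (w f).2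
  have hex : ∀ g f, ∃ t : ℤˣ, σ g (w f : W) = t • (w (π g f) : W) := by
    intro g f
    have hm : σ g (w f : W) ∈ LinearMap.range (π g f).1 := ⟨σ g (w f : W), by
      show cj σ g f.1 (σ g (w f : W)) = _
      rw [cj_apply, hwf]⟩
    obtain ⟨c, hc'⟩ := hw _ ⟨_, hm⟩
    have hc'' : c • (w (π g f) : W) = σ g (w f : W) := congrArg Subtype.val hc'
    have hc0 : c ≠ 0 := fun e0 => hwne f (sigma_injective σ g (by
      rw [← hc'', e0, zero_smul, map_zero]))
    rcases zmod3_cases c hc0 with rfl | rfl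
    · exact ⟨1, by simpa using hc''.symm⟩
    · exact ⟨-1, by simpa using hc''.symm⟩
  choose s hs using hex
  have hsq : ∀ x ∈ A, σ (x * x) (w a : W) = w a := by
    intro x hx
    have hπ : π x a = a := Subtype.ext (by
      show σ x * e * σ x⁻¹ = e
      rw [alg_comm hc (sigma_mem hx) he.mem, mul_assoc, sigma_mul_inv, mul_one])
    rw [map_mul, Module.End.mul_apply, hs, hπ, apply_units_smul, hs, hπ, smul_smul,
      Int.units_mul_self, one_smul]
  refine ⟨Ω, inferInstance, ⟨⟨π, s, ?_, ?_, ?_, ?_, ?_⟩⟩, ?_⟩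
  · intro g k x
    refine units_smul_cancel (hwne (π (g * k) x)) ?_
    rw [← hs, map_mul σ, Module.End.mul_apply, hs, apply_units_smul, hs, smul_smul, map_mul,
      Equiv.Perm.mul_apply, mul_comm]
  · intro g hp hs1
    refine h.faith (LinearMap.ext fun v => ?_)
    rw [map_one, Module.End.one_apply]
    conv_rhs => rw [← Module.End.one_apply (R := ZMod 3) v, ← hsum, LinearMap.sum_apply]
    conv_lhs => rw [← Module.End.one_apply (R := ZMod 3) v, ← hsum, LinearMap.sum_apply, map_sum]
    refine Finset.sum_congr rfl fun f _ => ?_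
    obtain ⟨c, hc'⟩ := hw f ⟨f.1 v, LinearMap.mem_range_self _ _⟩
    have hc'' : c • (w f : W) = f.1 v := congrArg Subtype.val hc'
    rw [← hc'', map_smul, hs, hp, Equiv.Perm.one_apply, hs1, one_smul]
  · intro x y
    obtain ⟨g, rfl⟩ := trans' x
    obtain ⟨k, rfl⟩ := trans' y
    exact ⟨k * g⁻¹, by
      rw [← Equiv.Perm.mul_apply, ← map_mul, inv_mul_cancel_right]⟩
  · refine ⟨a, fun h1 => hmv (congrArg Subtype.val h1), fun h1 => hmv ?_, fun z z1 z2 z3 => ?_⟩
    · have h2 : cj σ b (cj σ b e) = e := congrArg Subtype.val h1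
      conv_rhs => rw [← hbb e, h2]
    by_contra hz
    obtain ⟨-, hA'⟩ := horb z.1 z.2 fun h1 => hz (Subtype.ext h1)
    obtain ⟨-, hA⟩ := horb e he hmv
    obtain ⟨x, hx0, hxm⟩ : ∃ x, x ≠ 0 ∧ x ∈ LinearMap.range (β - 1) := by
      obtain ⟨x, hx, hx0⟩ := Submodule.exists_mem_ne_zero_of_ne_bot
        (p := LinearMap.range (β - 1)) (fun e0 => by
          have := h.block.rk1
          rw [e0, finrank_bot] at this
          exact absurd this (by norm_num))
      exact ⟨x, hx0, hx⟩
    apply hx0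
    have bb : ∀ y : Ω, π b (π b (π b y)) = y := fun y => Subtype.ext (hbb y.1)
    have inj := (π b).injective
    have m00 : ∀ i j : Ω, i ≠ j → i.1 * j.1 = 0 := fun i j hij =>
      atom_mul_eq_zero hc i.2 j.2 fun e0 => hij (Subtype.ext e0)
    have e1 := hA' x hxm
    have e2 := hA x hxm
    have n : (z.1 + (π b z).1 + (π b (π b z)).1) * (a.1 + (π b a).1 + (π b (π b a)).1) = 0 := by
      have y0 := z1
      have y1 := z2
      have y2 := z3
      have c0 : π b z ≠ a := fun e0 => z3 (by rw [← e0, bb])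
      have c1 : π b (π b z) ≠ a := fun e0 => z2 (by rw [← e0, bb])
      simp only [add_mul, mul_add]
      rw [m00 _ _ y0, m00 _ _ y1, m00 _ _ y2, m00 _ _ c0, m00 _ _ (fun e0 => z1 (inj e0)),
        m00 _ _ (fun e0 => z2 (inj e0)), m00 _ _ c1, m00 _ _ (fun e0 => c0 (inj e0)),
        m00 _ _ (fun e0 => z1 (inj (inj e0)))]
      simp
    calc x = (z.1 + (π b z).1 + (π b (π b z)).1) x := e1.symm
      _ = ((z.1 + (π b z).1 + (π b (π b z)).1) * (a.1 + (π b a).1 + (π b (π b a)).1)) x := by
          rw [Module.End.mul_apply]; congr 1; exact e2.symm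
      _ = 0 := by rw [n, LinearMap.zero_apply]
  · intro z _ hzc
    refine Equiv.ext fun f => Subtype.ext ?_
    show σ z * f.1 * σ z⁻¹ = f.1
    rw [(commute_alg (fun x hx => by
      show σ z * σ x = σ x * σ z
      rw [← map_mul, ← map_mul, hzc x (hAR hx)]) f.2.mem).eq, mul_assoc, sigma_mul_inv, mul_one]
  · have h2 : π b (π b a) ≠ a := fun h1 => hmv (by
      have h2 : cj σ b (cj σ b e) = e := congrArg Subtype.val h1
      conv_rhs => rw [← hbb e, h2])
    have h1 : π b a ≠ a := fun h1 => hmv (congrArg Subtype.val h1)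
    calc 3 = ({a, π b a, π b (π b a)} : Finset Ω).card := by
          rw [Finset.card_insert_of_notMem, Finset.card_pair]
          · exact fun e0 => h1 ((π b).injective e0).symm
          · simp only [Finset.mem_insert, Finset.mem_singleton, not_or]
            exact ⟨Ne.symm h1, Ne.symm h2⟩
      _ ≤ _ := Finset.card_le_univ _

/-- Either scalar or monomial. -/
theorem scalar_or_mono (h : Setup σ R b q) [A.Normal] (hAR : A ≤ R)
    (hc : ∀ a ∈ A, ∀ a' ∈ A, a * a' = a' * a) :
    (∀ a ∈ A, σ a = 1 ∨ σ a = -1) ∨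
      ∃ (Ω : Type u) (_ : Fintype Ω), Nonempty (Mono R b Ω) ∧ 3 ≤ Fintype.card Ω := by
  by_cases hfix : ∀ e, IsAtomOf (alg σ A) e → cj σ b e = e
  · exact Or.inl fun a ha => scalar_of_fixed h hAR hc hfix ha
  · push Not at hfix
    obtain ⟨e, he, hmv⟩ := hfix
    exact Or.inr (mono_of_moved h hAR hc he hmv)

end Cfsg.Agent.Lib.RankTwoBlock
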