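import Cfsg.Agent.Lib.RankTwoBlock.Mono

/-!
# Monomial data has at most four points
-/

set_option autoImplicit false

open scoped commutatorElement

namespace Cfsg.Agent.Lib.RankTwoBlock

universe v w

variable {Ω : Type w} [DecidableEq Ω]

/-- `c` is a three-cycle through `a`. -/
structure Tri (c : Equiv.Perm Ω) (a : Ω) : Prop where
  ne : c a ≠ a
  ne2 : c (c a) ≠ a
  cyc : c (c (c a)) = a
  fix : ∀ z, z ≠ a → z ≠ c a → z ≠ c (c a) → c z = z

namespace Tri

variable {c : Equiv.Perm Ω} {a : Ω}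

/-- The support. -/
def set (c : Equiv.Perm Ω) (a : Ω) : Finset Ω := {a, c a, c (c a)}

theorem mem_set (h : Tri c a) {z : Ω} : z ∈ set c a ↔ c z ≠ z := by
  simp only [set, Finset.mem_insert, Finset.mem_singleton]
  constructor
  · rintro (rfl | rfl | rfl)
    · exact h.ne
    · exact fun e => h.ne (c.injective e)
    · exact fun e => h.ne (c.injective (c.injective e))
  · intro hz
    by_contra hc
    push Not at hc
    exact hz (h.fix z hc.1 hc.2.1 hc.2.2)

theorem move (h : Tri c a) {x : Ω} (hx : x ∈ set c a) : Tri c x := by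
  simp only [set, Finset.mem_insert, Finset.mem_singleton] at hx
  rcases hx with rfl | rfl | rfl
  · exact h
  · exact ⟨fun e => h.ne (c.injective e), fun e => h.ne2 (c.injective e),
      congrArg c h.cyc, fun z z1 z2 z3 => h.fix z (by rw [h.cyc] at z3; exact z3) z1 z2⟩
  · refine ⟨fun e => h.ne (c.injective (c.injective e)),
      fun e => h.ne2 (c.injective (c.injective e)), congrArg c (congrArg c h.cyc), fun z z1 z2 z3 => ?_⟩
    rw [h.cyc] at z2 z3
    exact h.fix z z2 z3 z1

theorem conj (h : Tri c a) (g : Equiv.Perm Ω) : Tri (g * c * g⁻¹) (g a) := by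
  have e : ∀ x, (g * c * g⁻¹) (g x) = g (c x) := fun x => by
    simp [Equiv.Perm.mul_apply]
  refine ⟨?_, ?_, ?_, ?_⟩
  · rw [e]; exact fun x => h.ne (g.injective x)
  · rw [e, e]; exact fun x => h.ne2 (g.injective x)
  · rw [e, e, e, h.cyc]
  · intro z z1 z2 z3
    obtain ⟨y, rfl⟩ := g.surjective z
    rw [e] at z2 z3 ⊢
    rw [e] at z3
    rw [h.fix y (fun x => z1 (by rw [x])) (fun x => z2 (by rw [x])) (fun x => z3 (by rw [x]))]

theorem set_conj (h : Tri c a) (g : Equiv.Perm Ω) :
    set (g * c * g⁻¹) (g a) = (set c a).image g := by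
  simp [set, Equiv.Perm.mul_apply, Finset.image_insert]

theorem pow_three (h : Tri c a) : c ^ 3 = 1 := by
  refine Equiv.ext fun z => ?_
  show c (c (c z)) = z
  by_cases hz : z ∈ set c a
  · exact (h.move hz).cyc
  · rw [h.mem_set, not_not] at hz
    rw [hz, hz, hz]

/-- Two three-cycles through one common point have commutator a three-cycle. -/
theorem commutator_spec {c' : Equiv.Perm Ω} (h : Tri c a) (h' : Tri c' a)
    (hmeet : ∀ z ∈ set c a, z ∈ set c' a → z = a) : ⁅c, c'⁆ ^ 3 = 1 ∧ ⁅c, c'⁆ ≠ 1 := by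
  set x := c a with hx
  set y := c x with hy
  set u := c' a with hu
  set v := c' u with hv
  have f' : ∀ z ∈ set c a, z ≠ a → c' z = z := fun z hz hne => by
    by_contra hc
    exact hne (hmeet z hz (h'.mem_set.mpr hc))
  have f : ∀ z ∈ set c' a, z ≠ a → c z = z := fun z hz hne => by
    by_contra hc
    exact hne (hmeet z (h.mem_set.mpr hc) hz)
  have hxm : x ∈ set c a := by simp [set, ← hx]
  have hym : y ∈ set c a := by simp [set, ← hx, ← hy]
  have hum : u ∈ set c' a := by simp [set, ← hu]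
  have hvm : v ∈ set c' a := by simp [set, ← hu, ← hv]
  have c'x := f' x hxm h.ne
  have c'y := f' y hym h.ne2
  have cu := f u hum h'.ne
  have cv := f v hvm h'.ne2
  have cy : c y = a := h.cyc
  have c'v : c' v = a := h'.cyc
  have i1 : ∀ {z w : Ω}, c z = w → c⁻¹ w = z := fun {z w} e => by
    rw [← e]; exact c.symm_apply_apply z
  have i2 : ∀ {z w : Ω}, c' z = w → c'⁻¹ w = z := fun {z w} e => by
    rw [← e]; exact c'.symm_apply_apply z
  have d : ∀ z, ⁅c, c'⁆ z = c (c' (c⁻¹ (c'⁻¹ z))) := fun z => rfl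
  have da : ⁅c, c'⁆ a = x := by rw [d, i2 c'v, i1 cv, c'v]
  have dx : ⁅c, c'⁆ x = u := by rw [d, i2 c'x, i1 hx.symm, ← hu, cu]
  have du : ⁅c, c'⁆ u = a := by rw [d, i2 hu.symm, i1 cy, c'y, cy]
  refine ⟨Equiv.ext fun z => ?_, fun e => h.ne ?_⟩
  · show ⁅c, c'⁆ (⁅c, c'⁆ (⁅c, c'⁆ z)) = z
    by_cases za : z = a
    · rw [za, da, dx, du]
    by_cases zx : z = x
    · rw [zx, dx, du, da]
    by_cases zu : z = u
    · rw [zu, du, da, dx]
    suffices ⁅c, c'⁆ z = z by rw [this, this, this]
    by_cases zv : z = v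
    · rw [zv, d, i2 hv.symm, i1 cu, ← hv, cv]
    by_cases zy : z = y
    · rw [zy, d, i2 c'y, i1 hy.symm, c'x, hy]
    have e1 : c z = z := h.fix z za zx zy
    have e2 : c' z = z := h'.fix z za zu zv
    rw [d, i2 e2, i1 e1, e2, e1]
  · rw [e, Equiv.Perm.one_apply] at da
    exact da.symm

end Tri

variable [Fintype Ω] {G : Type v} [Group G] {R : Subgroup G} {b : G} (M : Mono R b Ω)

include M in
/-- Monomial data of a three-prime group has at most four points. -/
theorem Mono.card_le (hbR : ∀ g k : G, g * b * g⁻¹ * (k * b * k⁻¹)⁻¹ ∈ R) (hb3 : b ^ 3 = 1)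
    (hR : ¬ 3 ∣ Nat.card R) : Fintype.card Ω ≤ 4 := by
  classical
  have small : ∀ r ∈ R, (M.π r) ^ 3 = 1 → M.π r = 1 := by
    intro r hr h3
    have h1 : orderOf (M.π r) ∣ Nat.card R :=
      (orderOf_map_dvd M.π r).trans (Subgroup.orderOf_dvd_natCard R hr)
    have h2 : orderOf (M.π r) ∣ 3 := orderOf_dvd_of_pow_eq_one h3
    rcases (Nat.dvd_prime Nat.prime_three).mp h2 with h | h
    · exact orderOf_eq_one_iff.mp h
    · exact absurd (h ▸ h1) hR
  obtain ⟨a, ha1, ha2, ha3⟩ := M.three
  have hT : Tri (M.π b) a := ⟨ha1, ha2, by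
    rw [← Equiv.Perm.mul_apply, ← Equiv.Perm.mul_apply, ← map_mul, ← map_mul, mul_assoc,
      ← _root_.pow_three, hb3, map_one, Equiv.Perm.one_apply], ha3⟩
  set T0 := Tri.set (M.π b) a with hT0
  have hcard0 : T0.card = 3 := by
    rw [hT0, Tri.set, Finset.card_insert_of_notMem, Finset.card_pair]
    · exact fun e => ha1 ((M.π b).injective e).symm
    · simp only [Finset.mem_insert, Finset.mem_singleton, not_or]
      exact ⟨Ne.symm ha1, Ne.symm ha2⟩
  -- supports of conjugates
  let S : G → Finset Ω := fun g => T0.image (M.π g)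
  have hScard : ∀ g, (S g).card = 3 := fun g => by
    rw [Finset.card_image_of_injective _ (M.π g).injective, hcard0]
  have hTri : ∀ g, ∀ x ∈ S g, Tri (M.π (g * b * g⁻¹)) x ∧
      Tri.set (M.π (g * b * g⁻¹)) x = S g := by
    intro g x hx
    have h1 := hT.conj (M.π g)
    rw [← map_inv, ← map_mul, ← map_mul] at h1
    have h2 : Tri.set (M.π (g * b * g⁻¹)) (M.π g a) = S g := by
      rw [map_mul, map_mul, map_inv]; exact hT.set_conj (M.π g)
    have h3 := h1.move (h2 ▸ hx)
    refine ⟨h3, Finset.ext fun z => ?_⟩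
    rw [h3.mem_set, ← h1.mem_set, h2]
  -- any two supports meet in at least two points
  have meet : ∀ g k, 2 ≤ (S g ∩ S k).card := by
    intro g k
    by_contra hlt
    push Not at hlt
    set c := M.π (g * b * g⁻¹) with hc
    set c' := M.π (k * b * k⁻¹) with hc'
    obtain ⟨x, hx⟩ : (S g).Nonempty := Finset.card_pos.mp (by rw [hScard]; norm_num)
    obtain ⟨y, hy⟩ : (S k).Nonempty := Finset.card_pos.mp (by rw [hScard]; norm_num)
    obtain ⟨t1, s1⟩ := hTri g x hx
    obtain ⟨t2, s2⟩ := hTri k y hy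
    rcases (show (S g ∩ S k).card = 0 ∨ (S g ∩ S k).card = 1 by omega) with h0 | h1
    · rw [Finset.card_eq_zero] at h0
      have hdis : ∀ z, z ∈ S g → z ∈ S k → False := fun z z1 z2 => by
        have := Finset.mem_inter.mpr ⟨z1, z2⟩
        rw [h0] at this
        exact absurd this (Finset.notMem_empty z)
      have hcomm : Commute c c'⁻¹ := by
        refine Equiv.Perm.Disjoint.commute fun z => ?_
        by_cases hz : c z = z
        · exact Or.inl hz
        · right
          have h4 : c' z = z := by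
            by_contra h5
            exact hdis z (s1 ▸ t1.mem_set.mpr hz) (s2 ▸ t2.mem_set.mpr h5)
          conv_lhs => rw [← h4]
          exact c'.symm_apply_apply z
      have e : M.π (g * b * g⁻¹ * (k * b * k⁻¹)⁻¹) = c * c'⁻¹ := by rw [map_mul, map_inv]
      have e1 := small _ (hbR g k) (by
        rw [e, hcomm.mul_pow, inv_pow, t1.pow_three, t2.pow_three, inv_one, one_mul])
      rw [e, mul_inv_eq_one] at e1
      exact hdis x hx (s2 ▸ t2.mem_set.mpr (by rw [← hc', ← e1]; exact t1.ne))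
    · obtain ⟨z, hz⟩ := Finset.card_eq_one.mp h1
      have hzm : z ∈ S g ∧ z ∈ S k := Finset.mem_inter.mp (hz ▸ Finset.mem_singleton_self z)
      obtain ⟨u1, v1⟩ := hTri g z hzm.1
      obtain ⟨u2, v2⟩ := hTri k z hzm.2
      obtain ⟨e3, ene⟩ := u1.commutator_spec u2 fun w w1 w2 => Finset.mem_singleton.mp
        (hz ▸ Finset.mem_inter.mpr ⟨v1 ▸ w1, v2 ▸ w2⟩)
      have e : ⁅c, c'⁆ = M.π ((g * b * g⁻¹ * k) * b * (g * b * g⁻¹ * k)⁻¹ * (k * b * k⁻¹)⁻¹) := by
        rw [hc, hc', ← map_commutatorElement]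
        congr 1
        rw [commutatorElement_def]
        group
      exact ene (e.trans (small _ (hbR _ k) (e ▸ e3)))
  by_contra hbig
  push Not at hbig
  obtain ⟨z, hz⟩ : ∃ z, z ∉ T0 := by
    by_contra hc
    push Not at hc
    have := Finset.card_le_card (fun x _ => hc x : (Finset.univ : Finset Ω) ⊆ T0)
    rw [Finset.card_univ, hcard0] at this
    omega
  obtain ⟨z', hz', hzz⟩ : ∃ z', z' ∉ T0 ∧ z' ≠ z := by
    by_contra hc
    push Not at hc
    have := Finset.card_le_card (fun x _ => by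
      by_cases hx : x ∈ T0
      · exact Finset.mem_insert_of_mem hx
      · rw [hc x hx]; exact Finset.mem_insert_self z T0 : (Finset.univ : Finset Ω) ⊆ insert z T0)
    rw [Finset.card_univ, Finset.card_insert_of_notMem hz, hcard0] at this
    omega
  have ha0 : a ∈ T0 := by simp [hT0, Tri.set]
  obtain ⟨g, hg⟩ := M.trans a z
  obtain ⟨k, hk⟩ := M.trans a z'
  have hzg : z ∈ S g := Finset.mem_image.mpr ⟨a, ha0, hg⟩
  have hzk : z' ∈ S k := Finset.mem_image.mpr ⟨a, ha0, hk⟩
  have hS1 : S 1 = T0 := by simp [S]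
  -- each of the two supports is its new point and two points of `T0`
  have shape : ∀ f w, w ∉ T0 → w ∈ S f → (S f).erase w ⊆ T0 := by
    intro f w hw hwf v hv
    by_contra hvT
    obtain ⟨hvw, hvf⟩ := Finset.mem_erase.mp hv
    have h1 : S f ∩ S 1 ⊆ ((S f).erase w).erase v := fun x hx => by
      rw [hS1, Finset.mem_inter] at hx
      refine Finset.mem_erase.mpr ⟨fun e => hvT (e ▸ hx.2), Finset.mem_erase.mpr
        ⟨fun e => hw (e ▸ hx.2), hx.1⟩⟩
    have h2 := (meet f 1).trans (Finset.card_le_card h1)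
    rw [Finset.card_erase_of_mem hv, Finset.card_erase_of_mem hwf, hScard] at h2
    omega
  have hcard2 : ∀ f w, w ∈ S f → ((S f).erase w).card = 2 := fun f w hw => by
    rw [Finset.card_erase_of_mem hw, hScard]
  set P := (S g).erase z with hP
  have hPk : (S k).erase z' = P := by
    have h1 : S g ∩ S k ⊆ P := fun x hx => by
      rw [Finset.mem_inter] at hx
      refine Finset.mem_erase.mpr ⟨fun e => hz (shape k z' hz' hzk
        (Finset.mem_erase.mpr ⟨e ▸ hzz.symm, e ▸ hx.2⟩)), hx.1⟩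
    have h2 : S g ∩ S k ⊆ (S k).erase z' := fun x hx => by
      rw [Finset.mem_inter] at hx
      refine Finset.mem_erase.mpr ⟨fun e => hz' (shape g z hz hzg
        (Finset.mem_erase.mpr ⟨e ▸ hzz, e ▸ hx.1⟩)), hx.2⟩
    rw [← Finset.eq_of_subset_of_card_le h2 (by rw [hcard2 k z' hzk]; exact meet g k),
      Finset.eq_of_subset_of_card_le h1 (by rw [hP, hcard2 g z hzg]; exact meet g k)]
  -- the point of `T0` outside `S g`, and the image of `T0` by the conjugate at `g`
  obtain ⟨t, ht⟩ : (T0 \ P).Nonempty := by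
    rw [← Finset.card_pos, Finset.card_sdiff_of_subset (shape g z hz hzg), hcard0,
      hcard2 g z hzg]
    norm_num
  obtain ⟨htT, htP⟩ := Finset.mem_sdiff.mp ht
  obtain ⟨u, v⟩ := hTri g z hzg
  set m := g * b * g⁻¹ with hm
  have htfix : M.π m t = t := by
    by_contra hne
    have := v ▸ u.mem_set.mpr hne
    exact htP (Finset.mem_erase.mpr ⟨fun e => hz (e ▸ htT), this⟩)
  have hsub : S m ∩ S k ⊆ P.image (M.π m) ∩ P := by
    intro x hx
    rw [Finset.mem_inter] at hx
    obtain ⟨y, hy, rfl⟩ := Finset.mem_image.mp hx.1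
    have hyP : y ∈ P := by
      by_contra hyP
      have : y = t := by
        have h1 : T0 \ P = {t} := by
          refine (Finset.eq_singleton_iff_unique_mem).mpr ⟨ht, fun w hw => ?_⟩
          have := Finset.card_le_one.mp (by
            rw [Finset.card_sdiff_of_subset (shape g z hz hzg), hcard0, hcard2 g z hzg]) w hw t ht
          exact this
        exact Finset.mem_singleton.mp (h1 ▸ Finset.mem_sdiff.mpr ⟨hy, hyP⟩)
      subst this
      rw [htfix] at hx
      exact hyP (hPk ▸ Finset.mem_erase.mpr ⟨fun e => hz' (e ▸ htT), hx.2⟩)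
    refine Finset.mem_inter.mpr ⟨Finset.mem_image_of_mem _ hyP, ?_⟩
    have hmem : M.π m y ∈ S g := by
      rw [← v, u.mem_set]
      have : M.π m y ≠ y := u.mem_set.mp (v.symm ▸ (Finset.mem_erase.mp hyP).2)
      exact fun e => this ((M.π m).injective e)
    rw [← hPk]
    exact Finset.mem_erase.mpr ⟨fun e => hz' (shape g z hz hzg
      (Finset.mem_erase.mpr ⟨e ▸ hzz, e ▸ hmem⟩)), hx.2⟩
  have h2 := (meet m k).trans (Finset.card_le_card hsub)
  have himg : P.image (M.π m) = P := by
    have hPc : P.card = 2 := hcard2 g z hzg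
    have e1 : P.image (M.π m) ∩ P = P :=
      Finset.eq_of_subset_of_card_le Finset.inter_subset_right (by omega)
    exact (Finset.eq_of_subset_of_card_le (Finset.inter_eq_right.mp e1)
      (by rw [Finset.card_image_of_injective _ (M.π m).injective])).symm
  -- so `m` fixes `z`
  have hzm : M.π m z ∈ S g := by
    rw [← v, u.mem_set]; exact fun e => u.ne ((M.π m).injective e)
  have hzP : M.π m z ∈ P := Finset.mem_erase.mpr ⟨u.ne, hzm⟩
  obtain ⟨y, hy, hyz⟩ := Finset.mem_image.mp (himg.symm ▸ hzP)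
  exact (Finset.mem_erase.mp hy).1 ((M.π m).injective hyz)

end Cfsg.Agent.Lib.RankTwoBlock
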