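import Cfsg.Agent.Lib.RankTwoBlock.CardLe
import Cfsg.Agent.Lib.SquareMaps.Basic
import Cfsg.Agent.Lib.PGroups.Frattini

/-!
# The monomial case: a four-group or an extraspecial group of order 32
-/

set_option autoImplicit false

open scoped commutatorElement

namespace Cfsg.Agent.Lib.RankTwoBlock

universe u v w

/-- The map from the cyclic group of order two given by a square root of one. -/
def ofSq {G : Type v} [Group G] (x : G) (hx : x * x = 1) : Multiplicative (ZMod 2) →* G where
  toFun t := if t = 1 then 1 else x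
  map_one' := by simp
  map_mul' a b := by
    have key : ∀ t : Multiplicative (ZMod 2), t = 1 ∨ t = Multiplicative.ofAdd 1 := by decide
    have h1 : Multiplicative.ofAdd (1 : ZMod 2) * Multiplicative.ofAdd 1 = 1 := by decide
    rcases key a with rfl | rfl <;> rcases key b with rfl | rfl <;> simp [h1, hx]

theorem two_cases : ∀ t : Multiplicative (ZMod 2), t = 1 ∨ t = Multiplicative.ofAdd 1 := by decide

theorem triple_sq :
    ∀ x : Multiplicative (ZMod 2) × (Multiplicative (ZMod 2) × Multiplicative (ZMod 2)),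
      x ^ 2 = 1 := by decide

theorem exists_fourth : ∀ a c d : Fin 4, ∃ p, p ≠ a ∧ p ≠ c ∧ p ≠ d := by decide

theorem fin_four_cover : ∀ a c d p y : Fin 4, c ≠ a → d ≠ a → c ≠ d → p ≠ a → p ≠ c → p ≠ d →
    y ≠ p → y = a ∨ y = c ∨ y = d := by decide

theorem perm_three : ∀ τ : Equiv.Perm (Fin 3), Equiv.Perm.sign τ = 1 → τ ^ 3 = 1 := by decide

theorem perm_four : ∀ τ : Equiv.Perm (Fin 4), Equiv.Perm.sign τ = 1 → τ * τ = 1 ∨ τ ^ 3 = 1 := by
  decide

theorem perm_four_signs : ∀ τ : Equiv.Perm (Fin 4), Equiv.Perm.sign τ = 1 → τ * τ = 1 →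
    ∀ a b c d : ℤˣ, a * b * c * d = 1 → ∀ i,
      ![a, b, c, d] i * ![a, b, c, d] (τ i) = a * ![a, b, c, d] (τ 0) := by
  decide

theorem card_perm_four :
    Fintype.card {τ : Equiv.Perm (Fin 4) // Equiv.Perm.sign τ = 1 ∧ τ * τ = 1} = 4 := by
  decide

variable {G : Type v} [Group G] {W : Type u} [AddCommGroup W] [Module (ZMod 3) W]
  {σ : G →* Module.End (ZMod 3) W} {R : Subgroup G} {b q : G}

namespace Mono

variable {Ω : Type w} (M : Mono R b Ω)

theorem s_one (x : Ω) : M.s 1 x = 1 := by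
  have := M.s_mul 1 1 x
  rw [mul_one, map_one, Equiv.Perm.one_apply] at this
  exact left_eq_mul.mp this

theorem ext_elt {g k : G} (hp : M.π g = M.π k) (hs : ∀ x, M.s g x = M.s k x) : g = k := by
  refine mul_inv_eq_one.mp (M.inj _ (by rw [map_mul, hp, map_inv, mul_inv_cancel]) fun y => ?_)
  obtain ⟨x, rfl⟩ := (M.π k).surjective y
  have := M.s_mul (g * k⁻¹) k x
  rw [inv_mul_cancel_right, hs] at this
  exact right_eq_mul.mp this

/-- The product of the signs. -/
def prodHom [Fintype Ω] : G →* ℤˣ where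
  toFun g := ∏ x, M.s g x
  map_one' := Finset.prod_eq_one fun x _ => M.s_one x
  map_mul' g k := by
    rw [Finset.prod_congr rfl fun x _ => M.s_mul g k x, Finset.prod_mul_distrib,
      Equiv.prod_comp (M.π k) (M.s g)]

end Mono

namespace Setup

variable (h : Setup σ R b q)
include h

theorem qconj_sq : b * q * b⁻¹ * (b * q * b⁻¹) = 1 := by
  rw [show b * q * b⁻¹ * (b * q * b⁻¹) = b * (q * q) * b⁻¹ by group, h.q_sq, mul_one,
    mul_inv_cancel]

/-- The four-group as a homomorphism. -/
def fourHom : Multiplicative (ZMod 2) × Multiplicative (ZMod 2) →* G :=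
  MonoidHom.noncommCoprod (ofSq q h.q_sq) (ofSq (b * q * b⁻¹) h.qconj_sq) fun s t => by
    have key : ∀ t : Multiplicative (ZMod 2), t = 1 ∨ t = Multiplicative.ofAdd 1 := by decide
    rcases key s with rfl | rfl <;> rcases key t with rfl | rfl <;>
      simp [ofSq, Commute, SemiconjBy, h.q_comm]

/-- Only the trivial element of the four-group is fixed by `b`. -/
theorem fourHom_fixed {p : Multiplicative (ZMod 2) × Multiplicative (ZMod 2)}
    (hp : b * h.fourHom p * b⁻¹ = h.fourHom p) : p = 1 := by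
  have key : ∀ t : Multiplicative (ZMod 2), t = 1 ∨ t = Multiplicative.ofAdd 1 := by decide
  have hne : Multiplicative.ofAdd (1 : ZMod 2) ≠ 1 := by decide
  obtain ⟨s, t⟩ := p
  rcases key s with rfl | rfl <;> rcases key t with rfl | rfl <;>
    simp only [fourHom, MonoidHom.noncommCoprod_apply, ofSq, MonoidHom.coe_mk, OneHom.coe_mk,
      if_pos, if_neg hne, one_mul, mul_one] at hp
  · rfl
  · rw [h.q_conj, mul_eq_right] at hp
    exact absurd hp h.q_ne_one
  · exact absurd hp h.q_ne
  · rw [show b * (q * (b * q * b⁻¹)) * b⁻¹ = b * q * b⁻¹ * (b * (b * q * b⁻¹) * b⁻¹) by group,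
      h.q_conj, h.q_comm, ← mul_assoc, h.qconj_sq, one_mul] at hp
    exact absurd (right_eq_mul.mp hp) (fun e => h.q_ne_one (conj_eq_one_iff.mp e))

theorem fourHom_injective : Function.Injective h.fourHom := by
  refine (injective_iff_map_eq_one _).mpr fun p hp => h.fourHom_fixed ?_
  rw [hp, mul_one, mul_inv_cancel]

theorem fourHom_mem (p : Multiplicative (ZMod 2) × Multiplicative (ZMod 2)) : h.fourHom p ∈ R := by
  simp only [fourHom, MonoidHom.noncommCoprod_apply, ofSq, MonoidHom.coe_mk, OneHom.coe_mk]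
  refine mul_mem ?_ ?_
  · split
    · exact one_mem R
    · exact h.q_mem
  · split
    · exact one_mem R
    · exact h.qconj_mem

theorem four_le_card [Finite G] : 4 ≤ Nat.card R := by
  have := Nat.card_le_card_of_injective (fun p => (⟨h.fourHom p, h.fourHom_mem p⟩ : R))
    fun x y e => h.fourHom_injective (congrArg Subtype.val e)
  simpa using this

/-- `R` modulo `A` is not of order two when `b` normalises `A`. -/
theorem le_of_mul_mem (A : Subgroup G) (hb : b ∈ Subgroup.normalizer (A : Set G))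
    (h2 : ∀ r ∈ R, ∀ r' ∈ R, r ∉ A → r' ∉ A → r * r' ∈ A) : R ≤ A := by
  rw [← h.comm]
  refine Subgroup.commutator_le.mpr fun r hr y hy => ?_
  rw [commutatorElement_def, show r * y * r⁻¹ * y⁻¹ = r * (y * r⁻¹ * y⁻¹) by group]
  have hn : y ∈ Subgroup.normalizer (A : Set G) := Subgroup.zpowers_le.mpr hb hy
  have hiff : y * r⁻¹ * y⁻¹ ∈ A ↔ r ∈ A := by
    rw [← (Subgroup.mem_normalizer_iff.mp hn r⁻¹), inv_mem_iff]
  by_cases hrA : r ∈ A
  · exact mul_mem hrA (hiff.mpr hrA)
  · exact h2 r hr _ (h.normal.conj_mem _ (inv_mem hr) y) hrA fun e => hrA (hiff.mp e)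

theorem small (f : G →* Equiv.Perm (Fin 4)) {r : G} (hr : r ∈ R) (h3 : f r ^ 3 = 1) : f r = 1 := by
  have h1 : orderOf (f r) ∣ Nat.card R :=
    (orderOf_map_dvd f r).trans (Subgroup.orderOf_dvd_natCard R hr)
  rcases (Nat.dvd_prime Nat.prime_three).mp (orderOf_dvd_of_pow_eq_one h3) with e | e
  · exact orderOf_eq_one_iff.mp e
  · exact absurd (e ▸ h1) h.coprime

theorem small3 (f : G →* Equiv.Perm (Fin 3)) {r : G} (hr : r ∈ R) (h3 : f r ^ 3 = 1) :
    f r = 1 := by
  have h1 : orderOf (f r) ∣ Nat.card R :=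
    (orderOf_map_dvd f r).trans (Subgroup.orderOf_dvd_natCard R hr)
  rcases (Nat.dvd_prime Nat.prime_three).mp (orderOf_dvd_of_pow_eq_one h3) with e | e
  · exact orderOf_eq_one_iff.mp e
  · exact absurd (e ▸ h1) h.coprime

/-- Three points: the four-group. -/
theorem concl_three [Finite G] (M : Mono R b (Fin 3)) : Concl R := by
  have hπ : ∀ r ∈ R, M.π r = 1 := fun r hr =>
    h.small3 M.π hr (perm_three _ (h.map_eq_one (Equiv.Perm.sign.comp M.π) hr))
  have hprod : ∀ r ∈ R, M.s r 0 * M.s r 1 * M.s r 2 = 1 := fun r hr => by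
    have := h.map_eq_one M.prodHom hr
    simpa [Mono.prodHom, Fin.prod_univ_three] using this
  have hmul : ∀ r k, k ∈ R → ∀ x, M.s (r * k) x = M.s r x * M.s k x := fun r k hk x => by
    rw [M.s_mul, hπ k hk, Equiv.Perm.one_apply]
  have hinj : Function.Injective (fun r : R => (M.s r 0, M.s r 1)) := by
    intro r k e
    simp only [Prod.mk.injEq] at e
    refine Subtype.ext (M.ext_elt (by rw [hπ r r.2, hπ k k.2]) fun x => ?_)
    have e1 := hprod r r.2
    have e2 := hprod k k.2
    rw [e.1, e.2, ← e2] at e1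
    fin_cases x
    · exact e.1
    · exact e.2
    · exact mul_left_cancel e1
  refine Or.inl ⟨⟨⟨⟨fun r k => Subtype.ext (M.ext_elt ?_ fun x => ?_)⟩⟩, fun r hr => ?_⟩, ?_⟩
  · simp only [Subgroup.coe_mul, map_mul, hπ r r.2, hπ k k.2]
  · simp only [Subgroup.coe_mul, hmul r k k.2, hmul k r r.2, mul_comm]
  · refine M.ext_elt (by rw [map_pow, hπ r hr, one_pow, map_one]) fun x => ?_
    rw [sq, hmul r r hr, Int.units_mul_self, M.s_one]
  · have h4 := Nat.card_le_card_of_injective _ hinj
    rw [Nat.card_prod] at h4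
    simp only [Nat.card_eq_fintype_card, Fintype.card_units_int] at h4
    exact le_antisymm h4 h.four_le_card

/-- Four points: extraspecial of order 32. -/
theorem concl_four [Finite G] (M : Mono R b (Fin 4)) : Concl R := by
  have hsign : ∀ r ∈ R, Equiv.Perm.sign (M.π r) = 1 := fun r hr =>
    h.map_eq_one (Equiv.Perm.sign.comp M.π) hr
  have hτ : ∀ r ∈ R, M.π r * M.π r = 1 := fun r hr => by
    rcases perm_four _ (hsign r hr) with e | e
    · exact e
    · rw [h.small M.π hr e, mul_one]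
  have hprod : ∀ r ∈ R, M.s r 0 * M.s r 1 * M.s r 2 * M.s r 3 = 1 := fun r hr => by
    have := h.map_eq_one M.prodHom hr
    simpa [Mono.prodHom, Fin.prod_univ_four] using this
  have hsq : ∀ r ∈ R, M.π (r * r) = 1 ∧ ∀ x, M.s (r * r) x = M.s (r * r) 0 := by
    intro r hr
    refine ⟨by rw [map_mul, hτ r hr], fun x => ?_⟩
    have key := perm_four_signs _ (hsign r hr) (hτ r hr) _ _ _ _ (hprod r hr)
    have e : ![M.s r 0, M.s r 1, M.s r 2, M.s r 3] = M.s r := by
      funext i; fin_cases i <;> rfl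
    have k1 := key x
    rw [e] at k1
    rw [M.s_mul, M.s_mul, mul_comm, k1, mul_comm]
  have hcentral : ∀ z, M.π z = 1 → (∀ x, M.s z x = M.s z 0) → ∀ g, z * g = g * z := by
    intro z hz hs g
    refine M.ext_elt (by rw [map_mul, map_mul, hz, one_mul, mul_one]) fun x => ?_
    rw [M.s_mul, M.s_mul, hz, Equiv.Perm.one_apply, hs, hs x, mul_comm]
  -- `R` is transitive
  obtain ⟨a, ha1, ha2, ha3⟩ := M.three
  obtain ⟨p, hp1, hp2, hp3⟩ : ∃ p : Fin 4, p ≠ a ∧ p ≠ M.π b a ∧ p ≠ M.π b (M.π b a) := by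
    exact exists_fourth _ _ _
  have hbp : M.π b p = p := ha3 p hp1 hp2 hp3
  obtain ⟨r₀, hr₀, hr₀p⟩ : ∃ r ∈ R, M.π r p ≠ p := by
    by_contra hc
    push Not at hc
    obtain ⟨g, hg⟩ := M.trans p a
    have hle : R ⊔ Subgroup.zpowers b ≤ (MulAction.stabilizer (Equiv.Perm (Fin 4)) p).comap M.π :=
      sup_le (fun r hr => hc r hr) (Subgroup.zpowers_le.mpr hbp)
    have := hle (h.gen ▸ Subgroup.mem_top g)
    rw [Subgroup.mem_comap, MulAction.mem_stabilizer_iff, Equiv.Perm.smul_def, hg] at this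
    exact hp1 this.symm
  set x := M.π r₀ p with hx
  have hstep : ∀ r ∈ R, ∀ y, M.π r p = y → M.π (b * r * b⁻¹) p = M.π b y := by
    intro r _ y hy
    have : M.π b⁻¹ p = p := by
      rw [map_inv]
      conv_lhs => rw [← hbp]
      exact (M.π b).symm_apply_apply p
    rw [map_mul, map_mul, Equiv.Perm.mul_apply, Equiv.Perm.mul_apply, this, hy]
  have hxcover : ∀ y, y ≠ p → y = x ∨ y = M.π b x ∨ y = M.π b (M.π b x) := by
    have hne : M.π b a ≠ M.π b (M.π b a) := fun e => ha1 ((M.π b).injective e).symm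
    have hxs : x = a ∨ x = M.π b a ∨ x = M.π b (M.π b a) :=
      fin_four_cover _ _ _ p x ha1 ha2 hne hp1 hp2 hp3 hr₀p
    intro y hy
    have hb3 : ∀ z, M.π b (M.π b (M.π b z)) = z := fun z => by
      rw [← Equiv.Perm.mul_apply, ← Equiv.Perm.mul_apply, ← map_mul, ← map_mul, mul_assoc,
        ← pow_three, h.b_cube, map_one, Equiv.Perm.one_apply]
    have hy' := fin_four_cover _ _ _ p y ha1 ha2 hne hp1 hp2 hp3 hy
    rcases hxs with e | e | e <;> rw [e] <;> simp only [hb3] at * <;> tauto
  have htrans : ∀ y, ∃ r ∈ R, M.π r p = y := by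
    intro y
    by_cases hy : y = p
    · exact ⟨1, one_mem R, by rw [map_one, Equiv.Perm.one_apply, hy]⟩
    rcases hxcover y hy with e | e | e
    · exact ⟨r₀, hr₀, e.symm⟩
    · exact ⟨_, h.normal.conj_mem _ hr₀ b, (hstep r₀ hr₀ x rfl).trans e.symm⟩
    · exact ⟨_, h.normal.conj_mem _ (h.normal.conj_mem _ hr₀ b) b,
        (hstep _ (h.normal.conj_mem _ hr₀ b) _ (hstep r₀ hr₀ x rfl)).trans e.symm⟩
  -- the centre is scalar
  have hZ : ∀ z ∈ R, (∀ r ∈ R, z * r = r * z) → M.π z = 1 ∧ ∀ y, M.s z y = M.s z 0 := by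
    intro z hz hzc
    have hπz := M.center z hz hzc
    have h1 : ∀ y, M.s z y = M.s z p := by
      intro y
      obtain ⟨r, hr, rfl⟩ := htrans y
      have e1 := M.s_mul z r p
      rw [hzc r hr, M.s_mul r z p, hπz, Equiv.Perm.one_apply, mul_comm] at e1
      exact (mul_right_cancel e1).symm
    exact ⟨hπz, fun y => by rw [h1 y, h1 0]⟩
  set Z := Subgroup.center ↥R with hZdef
  have memZ : ∀ z : R, z ∈ Z ↔ ∀ r ∈ R, (z : G) * r = r * z := fun z => by
    rw [hZdef, Subgroup.mem_center_iff]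
    exact ⟨fun hz r hr => (congrArg Subtype.val (hz ⟨r, hr⟩)).symm,
      fun hz r => Subtype.ext (hz r r.2).symm⟩
  have hsqZ : ∀ r : R, r * r ∈ Z := fun r => (memZ _).mpr fun g _ =>
    hcentral _ (hsq r r.2).1 (hsq r r.2).2 g
  have hP : IsPGroup 2 R := fun r => ⟨2, by
    have h1 := hsq r r.2
    refine Subtype.ext (M.ext_elt ?_ fun y => ?_)
    · simp only [SubmonoidClass.coe_pow, OneMemClass.coe_one, map_pow, map_one]
      rw [show (2 : ℕ) ^ 2 = 2 * 2 from rfl, pow_mul, sq (M.π (r : G)), hτ r r.2, one_pow]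
    · simp only [SubmonoidClass.coe_pow, OneMemClass.coe_one, M.s_one]
      rw [show (2 : ℕ) ^ 2 = 2 * 2 from rfl, pow_mul, sq, sq, M.s_mul, h1.1,
        Equiv.Perm.one_apply, Int.units_mul_self]⟩
  haveI : Nontrivial R := by
    rw [← Finite.one_lt_card_iff_nontrivial]
    exact lt_of_lt_of_le (by norm_num) h.four_le_card
  haveI : Fact (Nat.Prime 2) := ⟨Nat.prime_two⟩
  have hZle : Nat.card Z ≤ 2 := by
    have := Nat.card_le_card_of_injective (fun z : Z => M.s ((z : R) : G) 0) fun z k e => by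
      have a1 := hZ _ (z : R).2 ((memZ _).mp z.2)
      have a2 := hZ _ (k : R).2 ((memZ _).mp k.2)
      exact Subtype.ext (Subtype.ext (M.ext_elt (a1.1.trans a2.1.symm) fun y => by
        rw [a1.2, a2.2]; exact e))
    simpa using this
  have hZnt : Nontrivial Z := hP.center_nontrivial
  have hZ2 : Nat.card Z = 2 :=
    le_antisymm hZle (Finite.one_lt_card_iff_nontrivial.mpr hZnt)
  have hnab : commutator R ≠ ⊥ := fun e => by
    have hc : Z = ⊤ := by
      rw [eq_top_iff]
      intro r _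
      rw [hZdef, Subgroup.mem_center_iff]
      intro k
      have : ⁅k, r⁆ ∈ commutator R := Subgroup.commutator_mem_commutator (Subgroup.mem_top k)
        (Subgroup.mem_top r)
      rw [e, Subgroup.mem_bot] at this
      exact commutatorElement_eq_one_iff_mul_comm.mp this
    have h4 := h.four_le_card
    rw [hc, Subgroup.card_top] at hZ2
    omega
  have hfr : frattini R ≤ Z := SquareMaps.frattini_le Z fun r => by rw [sq]; exact hsqZ r
  have hcf : commutator R ≤ frattini R := PGroups.commutator_le_frattini hP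
  have hcomm : commutator R = Z := Subgroup.eq_of_le_of_card_ge (hcf.trans hfr) (by
    rw [hZ2]
    exact Finite.one_lt_card_iff_nontrivial.mpr ((Subgroup.nontrivial_iff_ne_bot _).mpr hnab))
  -- the elementary abelian subgroup of order eight
  obtain ⟨z, hzne⟩ := exists_ne (1 : Z)
  have hzR : ((z : R) : G) ∈ R := (z : R).2
  obtain ⟨hzπ, hzs⟩ := hZ _ hzR ((memZ _).mp z.2)
  have hzc := hcentral _ hzπ hzs
  have hz2 : ((z : R) : G) * (z : R) = 1 := M.ext_elt
    (by rw [map_mul, hzπ, one_mul, map_one]) fun y => by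
      rw [M.s_mul, hzπ, Equiv.Perm.one_apply, Int.units_mul_self, M.s_one]
  set f : Multiplicative (ZMod 2) × (Multiplicative (ZMod 2) × Multiplicative (ZMod 2)) →* G :=
    MonoidHom.noncommCoprod (ofSq _ hz2) h.fourHom fun s t => by
      show (if s = 1 then 1 else ((z : R) : G)) * _ = _ * _
      simp only [ofSq, MonoidHom.coe_mk, OneHom.coe_mk]
      split
      · simp
      · exact hzc _ with hf
  have hfinj : Function.Injective f := by
    refine (injective_iff_map_eq_one _).mpr fun ⟨s, t⟩ e => ?_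
    rw [hf, MonoidHom.noncommCoprod_apply] at e
    have ht : t = 1 := h.fourHom_fixed (by
      rw [eq_inv_of_mul_eq_one_right e]
      simp only [ofSq, MonoidHom.coe_mk, OneHom.coe_mk]
      split
      · simp
      · rw [inv_eq_of_mul_eq_one_right hz2, ← hzc b, mul_inv_cancel_right])
    subst ht
    simp only [map_one, mul_one, ofSq, MonoidHom.coe_mk, OneHom.coe_mk] at e
    split at e
    · next hs => subst hs; rfl
    · exact absurd (Subtype.ext (Subtype.ext e)) hzne
  have hfR : f.range ≤ R := by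
    rintro _ ⟨⟨s, t⟩, rfl⟩
    rw [hf, MonoidHom.noncommCoprod_apply]
    refine mul_mem ?_ (h.fourHom_mem t)
    simp only [ofSq, MonoidHom.coe_mk, OneHom.coe_mk]
    split
    · exact one_mem R
    · exact hzR
  have hfcard : Nat.card f.range = 8 := by
    rw [← Nat.card_congr (MonoidHom.ofInjective hfinj).toEquiv]
    simp
  have hfb : b ∈ Subgroup.normalizer (f.range : Set G) := by
    rw [Subgroup.mem_normalizer_iff]
    have hgen : ∀ x ∈ f.range, b * x * b⁻¹ ∈ f.range := by
      have hofq : h.fourHom (Multiplicative.ofAdd 1, 1) = q := by simp [Setup.fourHom, ofSq]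
      have hofq' : h.fourHom (1, Multiplicative.ofAdd 1) = b * q * b⁻¹ := by
        simp [Setup.fourHom, ofSq]
      have hz' : f (Multiplicative.ofAdd 1, 1) = ((z : R) : G) := by simp [hf, ofSq]
      have hff : ∀ t, f (1, t) = h.fourHom t := fun t => by simp [hf]
      rintro _ ⟨⟨s, t1, t2⟩, rfl⟩
      have e : f (s, t1, t2) = f (s, 1) * f (1, (t1, 1)) * f (1, (1, t2)) := by
        rw [← map_mul, ← map_mul]; simp
      have key := two_cases
      have m1 : b * f (s, 1) * b⁻¹ ∈ f.range := by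
        rcases key s with rfl | rfl
        · rw [← Prod.one_eq_mk, map_one, mul_one, mul_inv_cancel]; exact one_mem _
        · rw [hz', ← hzc b, mul_inv_cancel_right, ← hz']; exact ⟨_, rfl⟩
      have m2 : b * f (1, (t1, 1)) * b⁻¹ ∈ f.range := by
        rcases key t1 with rfl | rfl
        · rw [← Prod.one_eq_mk, ← Prod.one_eq_mk, map_one, mul_one, mul_inv_cancel]
          exact one_mem _
        · rw [hff, hofq, ← hofq', ← hff]; exact ⟨_, rfl⟩
      have m3 : b * f (1, (1, t2)) * b⁻¹ ∈ f.range := by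
        rcases key t2 with rfl | rfl
        · rw [← Prod.one_eq_mk, ← Prod.one_eq_mk, map_one, mul_one, mul_inv_cancel]
          exact one_mem _
        · rw [hff, hofq', h.q_conj, ← hofq', ← hff]
          exact mul_mem ⟨_, (hff _).trans hofq⟩ ⟨_, rfl⟩
      rw [e, show b * (f (s, 1) * f (1, (t1, 1)) * f (1, (1, t2))) * b⁻¹
        = b * f (s, 1) * b⁻¹ * (b * f (1, (t1, 1)) * b⁻¹) * (b * f (1, (1, t2)) * b⁻¹) by group]
      exact mul_mem (mul_mem m1 m2) m3
    refine fun x => ⟨hgen x, fun hx => ?_⟩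
    have := hgen _ (hgen _ hx)
    rwa [show b * (b * (b * x * b⁻¹) * b⁻¹) * b⁻¹ = b ^ 3 * x * (b ^ 3)⁻¹ by
      simp only [pow_three]; group, h.b_cube, one_mul, inv_one, mul_one] at this
  refine Or.inr ⟨⟨⟨hP, le_antisymm hfr (hcomm.ge.trans hcf), hcomm⟩, hZ2⟩, ?_, f.range, hfR,
    ⟨⟨⟨?_⟩⟩, ?_⟩, hfcard⟩
  · have hle : Nat.card R ≤ 32 := by
      have := Nat.card_le_card_of_injective
        (fun r : R => ((⟨M.π r, hsign r r.2, hτ r r.2⟩ :
          {τ : Equiv.Perm (Fin 4) // Equiv.Perm.sign τ = 1 ∧ τ * τ = 1}),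
          fun i : Fin 3 => M.s r i.castSucc)) fun r k e => by
        simp only [Prod.mk.injEq, Subtype.mk.injEq] at e
        have s0 : M.s r 0 = M.s k 0 := congrFun e.2 0
        have s1 : M.s r 1 = M.s k 1 := congrFun e.2 1
        have s2 : M.s r 2 = M.s k 2 := congrFun e.2 2
        have p1 := hprod r r.2
        have p2 := hprod k k.2
        rw [s0, s1, s2, ← p2] at p1
        refine Subtype.ext (M.ext_elt e.1 fun y => ?_)
        fin_cases y
        exacts [s0, s1, s2, mul_left_cancel p1]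
      rw [Nat.card_prod, Nat.card_eq_fintype_card (α := {τ : Equiv.Perm (Fin 4) // _}),
        card_perm_four] at this
      simpa using this
    obtain ⟨m, hm⟩ := IsPGroup.iff_card.mp hP
    have h8 : 8 ∣ Nat.card R := hfcard ▸ Subgroup.card_dvd_of_le hfR
    by_contra hne
    have hsmall : Nat.card R ≤ 16 := by
      have : m ≤ 5 := (Nat.pow_le_pow_iff_right (by norm_num : 1 < 2)).mp (show 2 ^ m ≤ 2 ^ 5 by omega)
      interval_cases m <;> omega
    have hRle : R ≤ f.range := h.le_of_mul_mem f.range hfb fun r hr r' hr' n1 n2 => by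
      set A := f.range.subgroupOf R with hA
      have hcA : Nat.card A = 8 := by
        rw [hA, Nat.card_congr (Subgroup.subgroupOfEquivOfLe hfR).toEquiv, hfcard]
      have hidx : A.index = 2 := by
        have h1 := A.card_mul_index
        rw [hcA] at h1
        have h2 : A.index ≠ 1 := fun e => n1 (by
          have := Subgroup.index_eq_one.mp e ▸ Subgroup.mem_top (⟨r, hr⟩ : R)
          rwa [hA, Subgroup.mem_subgroupOf] at this)
        have h3 : A.index ≠ 0 := Subgroup.index_ne_zero_of_finite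
        omega
      exact (Subgroup.mul_mem_iff_of_index_two hidx (a := ⟨r, hr⟩) (b := ⟨r', hr'⟩)).mpr
        (iff_of_false n1 n2)
    refine hnab (eq_bot_iff.mpr ?_)
    rw [commutator_def, Subgroup.commutator_le]
    intro r _ k _
    rw [Subgroup.mem_bot, commutatorElement_eq_one_iff_mul_comm]
    obtain ⟨x1, e1⟩ := hRle r.2
    obtain ⟨x2, e2⟩ := hRle k.2
    exact Subtype.ext (by rw [Subgroup.coe_mul, Subgroup.coe_mul, ← e1, ← e2, ← map_mul, ← map_mul,
      mul_comm])
  · rintro ⟨_, x1, rfl⟩ ⟨_, x2, rfl⟩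
    exact Subtype.ext (by simp only [Subgroup.coe_mul, ← map_mul, mul_comm])
  · rintro _ ⟨x, rfl⟩
    rw [← map_pow, triple_sq, map_one]

/-- The monomial case. -/
theorem concl_of_mono [Finite G] {Ω : Type w} [Fintype Ω] (M : Mono R b Ω)
    (h3 : 3 ≤ Fintype.card Ω) : Concl R := by
  classical
  have h4 := M.card_le h.conj_div_mem h.b_cube h.coprime
  rcases (show Fintype.card Ω = 3 ∨ Fintype.card Ω = 4 by omega) with e | e
  · exact h.concl_three (M.congr ((Fintype.equivFin Ω).trans (finCongr e)))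
  · exact h.concl_four (M.congr ((Fintype.equivFin Ω).trans (finCongr e)))

end Setup

end Cfsg.Agent.Lib.RankTwoBlock
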