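import Cfsg.Agent.Lib.RankTwoBlock.CaseMono
import Cfsg.Agent.Lib.RankTwoBlock.Branch
import Cfsg.Agent.Lib.SylowInter.Basic
import Cfsg.Agent.Lib.Hall.Basic

/-!
# The case in which every abelian normal subgroup is scalar does not occur
-/

set_option autoImplicit false

open Module
open scoped commutatorElement

namespace Cfsg.Agent.Lib.RankTwoBlock

universe u v

variable {G : Type v} [Group G] {W : Type u} [AddCommGroup W] [Module (ZMod 3) W]
  {σ : G →* Module.End (ZMod 3) W} {R : Subgroup G} {b q : G}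

theorem two_pow_mod : ∀ k < 10, ∀ i < 10, i ≤ k → 2 ^ k % 13 = 2 ^ i % 13 → i = k := by decide

/-- The elements of `R` acting as scalars. -/
def scal (σ : G →* Module.End (ZMod 3) W) : Subgroup G where
  carrier := {g | σ g = 1 ∨ σ g = -1}
  one_mem' := Or.inl (map_one σ)
  mul_mem' := by
    rintro g k (hg | hg) (hk | hk) <;>
      simp only [Set.mem_ofPred_eq, map_mul, hg, hk, mul_one, one_mul, neg_neg, mul_neg] <;> tauto
  inv_mem' := by
    intro g hg
    have e : σ g⁻¹ = σ g := by
      have h2 : σ g * σ g = 1 := by rcases hg with h | h <;> simp [h]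
      calc σ g⁻¹ = σ g⁻¹ * (σ g * σ g) := by rw [h2, mul_one]
        _ = σ g := by rw [← mul_assoc, ← map_mul, inv_mul_cancel, map_one, one_mul]
    show σ g⁻¹ = 1 ∨ σ g⁻¹ = -1
    rw [e]; exact hg

theorem mem_scal {g : G} : g ∈ scal σ ↔ σ g = 1 ∨ σ g = -1 := Iff.rfl

/-- In a finite group one inclusion suffices to normalise. -/
theorem mem_normalizer_of_conj_le [Finite G] (g : G) {A : Subgroup G}
    (hle : ∀ a ∈ A, g * a * g⁻¹ ∈ A) : g ∈ Subgroup.normalizer (A : Set G) := by
  have heq : A.map (MulAut.conj g).toMonoidHom = A := by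
    refine Subgroup.eq_of_le_of_card_ge (by rintro _ ⟨a, ha, rfl⟩; exact hle a ha) ?_
    rw [Subgroup.card_map_of_injective (MulAut.conj g).injective]
  rw [Subgroup.mem_normalizer_iff]
  refine fun a => ⟨hle a, fun ha => ?_⟩
  rw [← heq] at ha
  obtain ⟨a', ha', e⟩ := ha
  exact (MulAut.conj g).injective e ▸ ha'

namespace Setup

variable (h : Setup σ R b q)
include h

theorem scal_central {z : G} (hz : z ∈ scal σ) (g : G) : z * g = g * z :=
  h.faith (by rcases mem_scal.mp hz with e | e <;> simp [map_mul, e])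

theorem scal_sq {z : G} (hz : z ∈ scal σ) : z * z = 1 :=
  h.faith (by rcases mem_scal.mp hz with e | e <;> simp [map_mul, e])

theorem q_not_scal : q ∉ scal σ := fun hq => h.q_ne (by
  rw [← h.scal_central hq b, mul_inv_cancel_right])

variable [FiniteDimensional (ZMod 3) W] [Group.IsSolvable G]
  (hsc : ∀ A : Subgroup G, A.Normal → A ≤ R → (∀ a ∈ A, ∀ a' ∈ A, a * a' = a' * a) → A ≤ scal σ)
include hsc

/-- Scalar abelian normal subgroups are contradictory. -/
theorem scalar_absurd : False := by
  haveI := h.finite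
  haveI := h.normal
  haveI : Fact (Nat.Prime 2) := ⟨Nat.prime_two⟩
  set F : Subgroup G := R ⊓ Cfsg.pCore 2 G with hF
  have hFR : F ≤ R := inf_le_left
  have hFp : IsPGroup 2 F := (Cores.pCore_isPGroup 2).to_le inf_le_right
  have hle2 : ∀ N : Subgroup G, N.Normal → N ≤ R → IsPGroup 2 N → N ≤ F := fun N hN hNR hNp =>
    le_inf hNR (Cores.le_pCore hNp)
  -- no odd part
  have hodd : Cfsg.pPrimeCore 2 R = ⊥ := by
    set M := (Cfsg.pPrimeCore 2 R).map R.subtype with hM
    haveI : M.Normal := Cores.normal_map_subtype R _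
    by_contra hne
    obtain ⟨p, N, -, hN, hN0, hNM, hNc, -⟩ := Hall.exists_normal_abelian_pgroup_le (M := M)
      (fun e => hne ((Subgroup.map_eq_bot_iff_of_injective _ R.subtype_injective).mp e))
    refine hN0 ((Subgroup.eq_bot_iff_forall _).mpr fun x hx => ?_)
    have h1 : x * x = 1 := h.scal_sq (hsc N hN (hNM.trans (Subgroup.map_subtype_le _)) hNc hx)
    have h2 : orderOf x ∣ 2 := orderOf_dvd_of_pow_eq_one (by rw [sq]; exact h1)
    have h3 : orderOf x ∣ Nat.card (Cfsg.pPrimeCore 2 R) := by
      rw [← Subgroup.card_map_of_injective R.subtype_injective]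
      exact (Subgroup.orderOf_dvd_natCard N hx).trans (Subgroup.card_dvd_of_le hNM)
    exact orderOf_eq_one_iff.mp (Nat.eq_one_of_dvd_coprimes (Cores.pPrimeCore_coprime 2) h3 h2)
  have hCF : ∀ r ∈ R, (∀ x ∈ F, r * x = x * r) → r ∈ F := by
    intro r hr hc
    have hmap := Cores.map_subtype_pCore (G := G) 2 R
    have := SylowInter.Basic.centralizer_pCore_le (G := R) 2 hodd (x := ⟨r, hr⟩)
      (Subgroup.mem_centralizer_iff.mpr fun y hy => Subtype.ext (hc y ((hF.trans hmap.symm).ge ⟨y, hy, rfl⟩)).symm)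
    exact (hF.trans hmap.symm).ge ⟨_, this, rfl⟩
  have hRab : ¬ ∀ r ∈ R, ∀ k ∈ R, r * k = k * r := fun hc =>
    h.q_not_scal (hsc R h.normal le_rfl hc h.q_mem)
  have hFab : ¬ ∀ x ∈ F, ∀ y ∈ F, x * y = y * x := fun hc => by
    have hs : F ≤ scal σ := hsc F inferInstance hFR hc
    exact hRab fun r hr k hk => h.scal_central (hs (hCF r hr fun x hx =>
      (h.scal_central (hs hx) r).symm)) k
  -- centre of `F`
  have hZF : ∀ x ∈ F, (∀ y ∈ F, x * y = y * x) → x ∈ scal σ := fun x hx hc =>
    hsc (F ⊓ Subgroup.centralizer (F : Set G)) inferInstance (inf_le_left.trans hFR)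
      (fun a ha a' ha' => (Subgroup.mem_centralizer_iff.mp ha'.2 a ha.1)) ⟨hx,
        Subgroup.mem_centralizer_iff.mpr fun y hy => (hc y hy).symm⟩
  -- commutators are scalar
  have hcom : ∀ x ∈ F, ∀ y ∈ F, ⁅x, y⁆ ∈ scal σ := by
    by_contra hne
    have hD : ¬ (⁅F, F⁆ : Subgroup G) ≤ scal σ := fun hD => hne fun x hx y hy =>
      hD (Subgroup.commutator_mem_commutator hx hy)
    obtain ⟨A, ⟨hAn, hAD, hAs⟩, hmin⟩ := WellFounded.has_min (wellFounded_lt (α := Subgroup G))
      {A | A.Normal ∧ A ≤ ⁅F, F⁆ ∧ ¬ A ≤ scal σ} ⟨_, inferInstance, le_rfl, hD⟩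
    haveI := hAn
    have hAF : A ≤ F := hAD.trans (Subgroup.commutator_le_left F F)
    have hle : (⁅A, F⁆ : Subgroup G) ≤ A := Subgroup.commutator_le_left A F
    have hAZ : (⁅A, F⁆ : Subgroup G) ≤ scal σ := by
      by_contra hns
      have heq : (⁅A, F⁆ : Subgroup G) = A := by
        rcases hle.lt_or_eq with hlt | he
        · exact absurd hlt (hmin _ ⟨inferInstance, hle.trans hAD, hns⟩)
        · exact he
      have hser : ∀ n, A ≤ ((⊤ : Subgroup F).lowerCentralSeries n).map F.subtype := by
        intro n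
        induction n with
        | zero =>
          rw [Subgroup.lowerCentralSeries_zero, ← MonoidHom.range_eq_map, Subgroup.range_subtype]
          exact hAF
        | succ n ih =>
          rw [Subgroup.lowerCentralSeries_succ, Subgroup.map_commutator, ← MonoidHom.range_eq_map,
            Subgroup.range_subtype]
          conv_lhs => rw [← heq]
          exact Subgroup.commutator_mono ih le_rfl
      haveI : Group.IsNilpotent F := hFp.isNilpotent
      obtain ⟨n, hn⟩ := Subgroup.nilpotent_iff_lowerCentralSeries (G := F).mp inferInstance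
      exact hAs ((hser n).trans (by rw [hn, Subgroup.map_bot]; exact bot_le))
    have hz : ∀ K : Subgroup G, ⁅⁅A, F⁆, K⁆ = ⊥ := fun K =>
      Subgroup.commutator_eq_bot_iff_le_centralizer.mpr fun z hz =>
        Subgroup.mem_centralizer_iff.mpr fun g _ => (h.scal_central (hAZ hz) g).symm
    have h3 : ⁅⁅F, F⁆, A⁆ = (⊥ : Subgroup G) :=
      Subgroup.commutator_commutator_eq_bot_of_rotate
        (by rw [Subgroup.commutator_comm F A]; exact hz F) (hz F)
    refine hAs (hsc A hAn (hAF.trans hFR) fun a ha a' ha' => ?_)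
    exact (Subgroup.mem_centralizer_iff.mp
      (Subgroup.commutator_eq_bot_iff_le_centralizer.mp h3 (hAD ha)) a' ha').symm
  have hswap : ∀ x ∈ F, ∀ y ∈ F, ∃ m ∈ scal σ, x * y = m * (y * x) := fun x hx y hy =>
    ⟨⁅x, y⁆, hcom x hx y hy, by rw [commutatorElement_def]; group⟩
  have hsq : ∀ x ∈ F, x * x ∈ scal σ := by
    intro x hx
    refine hZF _ (mul_mem hx hx) fun y hy => ?_
    obtain ⟨m, hm, e⟩ := hswap x hx y hy
    calc x * x * y = x * (x * y) := mul_assoc _ _ _
      _ = x * (m * (y * x)) := by rw [e]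
      _ = x * m * (y * x) := by rw [mul_assoc]
      _ = m * x * (y * x) := by rw [h.scal_central hm x]
      _ = m * (x * y) * x := by simp only [mul_assoc]
      _ = m * (m * (y * x)) * x := by rw [e]
      _ = m * m * (y * (x * x)) := by simp only [mul_assoc]
      _ = y * (x * x) := by rw [h.scal_sq hm, one_mul]
  -- an element moved by `b` modulo scalars
  have b3 : b * (b * b) = 1 := by rw [← pow_three]; exact h.b_cube
  obtain ⟨x, hxF, hxc⟩ : ∃ x ∈ F, x * (b * x * b⁻¹)⁻¹ ∉ scal σ := by
    by_contra hc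
    push Not at hc
    have hfix : ∀ x ∈ F, b * x * b⁻¹ = x := by
      intro x hx
      set m := x * (b * x * b⁻¹)⁻¹ with hm
      have hms : m ∈ scal σ := hc x hx
      have e1 : b * x * b⁻¹ = m * x := by
        conv_rhs => rw [← inv_eq_of_mul_eq_one_right (h.scal_sq hms), hm, mul_inv_rev, inv_inv]
        rw [inv_mul_cancel_right]
      have e2 : ∀ y, b * (m * y) * b⁻¹ = m * (b * y * b⁻¹) := fun y => by
        rw [← mul_assoc b m, ← h.scal_central hms b]; simp only [mul_assoc]
      have e4 : b * (b * x * b⁻¹) * b⁻¹ = x := by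
        rw [e1, e2, e1, ← mul_assoc, h.scal_sq hms, one_mul]
      have e5 : b * (b * (b * x * b⁻¹) * b⁻¹) * b⁻¹ = x := by
        rw [show b * (b * (b * x * b⁻¹) * b⁻¹) * b⁻¹ = b * (b * b) * x * (b * (b * b))⁻¹ by group,
          b3, one_mul, inv_one, mul_one]
      rw [e4] at e5
      exact e5
    have hRc := h.le_of_conj_mem (Subgroup.centralizer (F : Set G))
      (Subgroup.mem_centralizer_iff.mpr fun y hy => (mul_inv_eq_iff_eq_mul.mp (hfix y hy)).symm)
    refine hFab fun y hy k hk => ?_
    exact (Subgroup.mem_centralizer_iff.mp (hRc (hFR hk)) y hy)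
  have hFn : ∀ g y, y ∈ F → g * y * g⁻¹ ∈ F := fun g y hy =>
    Subgroup.Normal.conj_mem inferInstance y hy g
  set c := x * (b * x * b⁻¹)⁻¹ with hc
  set d := b * c * b⁻¹ with hd
  have hcF : c ∈ F := mul_mem hxF (inv_mem (hFn b x hxF))
  have hbd : b * d * b⁻¹ = (c * d)⁻¹ := by
    have e3 : b * (b * (b * x * b⁻¹) * b⁻¹) * b⁻¹ = x := by
      rw [show b * (b * (b * x * b⁻¹) * b⁻¹) * b⁻¹ = b * (b * b) * x * (b * (b * b))⁻¹ by group,
        b3, one_mul, inv_one, mul_one]
    have e1 : d = (b * x * b⁻¹) * (b * (b * x * b⁻¹) * b⁻¹)⁻¹ := by rw [hd, hc]; group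
    have e2 : b * d * b⁻¹ = (b * (b * x * b⁻¹) * b⁻¹) * (b * (b * (b * x * b⁻¹) * b⁻¹) * b⁻¹)⁻¹ := by
      rw [hd, hc]; group
    have gen : ∀ u w : G, w * x⁻¹ = (x * u⁻¹ * (u * w⁻¹))⁻¹ := fun u w => by group
    rw [e2, e3, e1, hc]
    exact gen _ _
  obtain ⟨y, hyF, hym⟩ : ∃ y ∈ F, c * y ≠ y * c := by
    by_contra hc'
    push Not at hc'
    exact hxc (hZF c hcF hc')
  have hanti : σ c * σ y = -(σ y * σ c) := by
    obtain ⟨m, hm, e⟩ := hswap c hcF y hyF
    rcases mem_scal.mp hm with e1 | e1
    · exact absurd (by rw [e, h.faith (e1.trans (map_one σ).symm), one_mul]) hym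
    · rw [← map_mul, e, map_mul, e1, map_mul, neg_one_mul]
  have hfin : finrank (ZMod 3) W ≤ 4 := by
    rcases mem_scal.mp (hsq c hcF) with e | e
    · have cc : c * c = 1 := h.faith (e.trans (map_one σ).symm)
      have dd : d * d = 1 := by
        rw [hd, show b * c * b⁻¹ * (b * c * b⁻¹) = b * (c * c) * b⁻¹ by group, cc, mul_one,
          mul_inv_cancel]
      have cd2 : (c * d) * (c * d) = 1 := by
        have : (c * d)⁻¹ * (c * d)⁻¹ = 1 := by
          rw [← hbd, show b * d * b⁻¹ * (b * d * b⁻¹) = b * (d * d) * b⁻¹ by group, dd, mul_one,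
            mul_inv_cancel]
        rwa [← mul_inv_rev, inv_eq_one] at this
      have hcd : c * d = d * c := by
        rw [← inv_eq_of_mul_eq_one_right cd2, mul_inv_rev, inv_eq_of_mul_eq_one_right cc,
          inv_eq_of_mul_eq_one_right dd]
      have hF4 : Four (σ b) (σ c) (σ d) :=
        { sq := by rw [← map_mul, cc, map_one]
          sq' := by rw [← map_mul, dd, map_one]
          comm := by rw [← map_mul, hcd, map_mul]
          conj := by rw [← map_mul, ← map_mul, hd, inv_mul_cancel_right]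
          conj' := by
            rw [← map_mul σ b, ← map_mul, ← map_mul, ← inv_eq_of_mul_eq_one_right cd2, ← hbd,
              inv_mul_cancel_right] }
      have hc1 : σ c ≠ 1 := fun e' => hxc (Or.inl e')
      let yE : W ≃ₗ[ZMod 3] W := LinearEquiv.ofLinear (σ y) (σ y⁻¹)
        (LinearMap.ext (apply_inv_apply σ y)) (LinearMap.ext (inv_apply_apply σ y))
      exact hF4.finrank_le h.block hc1 yE fun v => by
        simpa [yE, Module.End.mul_apply] using LinearMap.congr_fun hanti v
    · have ii : σ c * σ c = -1 := by rw [← map_mul]; exact e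
      have jj : σ d * σ d = -1 := by
        rw [← map_mul, hd, show b * c * b⁻¹ * (b * c * b⁻¹) = b * (c * c) * b⁻¹ by group, map_mul,
          map_mul, e, mul_neg_one, neg_mul, sigma_mul_inv]
      set k := σ ((c * d)⁻¹) with hk
      have kk : k * k = -1 := by
        rw [hk, ← map_mul, ← hbd, show b * d * b⁻¹ * (b * d * b⁻¹) = b * (d * d) * b⁻¹ by group,
          map_mul, map_mul, map_mul σ d, jj, mul_neg_one, neg_mul, sigma_mul_inv]
      have hijk : σ c * σ d * k = 1 := by
        rw [hk, ← map_mul, ← map_mul, mul_inv_cancel, map_one]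
      have hij : σ c * σ d = -k := by
        calc σ c * σ d = -(σ c * σ d * (k * k)) := by rw [kk, mul_neg_one, neg_neg]
          _ = -k := by rw [← mul_assoc, hijk, one_mul]
      have hji : σ d * σ c = -(σ c * σ d) := by
        have e2 : σ c * σ d * (σ c * σ d) = -1 := by rw [hij, neg_mul_neg, kk]
        calc σ d * σ c = σ c * σ c * (σ d * σ c) * (σ d * σ d) := by
              rw [ii, jj, neg_one_mul, mul_neg_one, neg_neg]
          _ = σ c * (σ c * σ d * (σ c * σ d)) * σ d := by simp only [mul_assoc]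
          _ = -(σ c * σ d) := by rw [e2, mul_neg_one, neg_mul]
      refine quat_bound h.block ii jj hji ?_ ?_
      · rw [← map_mul, ← map_mul, hd, inv_mul_cancel_right]
      · rw [hij, neg_neg, hk, ← map_mul, ← map_mul, ← hbd, inv_mul_cancel_right]
  -- the order of `R`
  have hRcard : Nat.card R ∣ 33280 := by
    let e := Units.mapEquiv (LinearMap.toMatrixAlgEquiv (Module.finBasis (ZMod 3) W)).toMulEquiv
    have hd1 : Nat.card R ∣ Nat.card (GL (Fin (finrank (ZMod 3) W)) (ZMod 3)) := by
      rw [← Nat.card_congr e.toEquiv]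
      exact Subgroup.card_dvd_of_injective (σ.toHomUnits.comp R.subtype)
        fun r k e' => Subtype.ext (h.faith (congrArg Units.val e'))
    have hd2 : Nat.card R ∣ 24261120 := by
      refine hd1.trans ?_
      rw [Matrix.card_GL_field]
      generalize finrank (ZMod 3) W = n at hfin ⊢
      interval_cases n <;> simp [Fin.prod_univ_succ, ZMod.card] <;> norm_num
    have : Nat.Coprime (Nat.card R) (3 ^ 6) :=
      ((Nat.prime_three.coprime_iff_not_dvd).mpr h.coprime).symm.pow_right 6
    exact this.dvd_of_dvd_mul_right (by norm_num; exact hd2)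
  -- no element of order thirteen
  obtain ⟨k, hk⟩ := IsPGroup.iff_card.mp hFp
  have hk9 : k ≤ 9 := by
    have h1 : 2 ^ k ∣ 2 ^ 9 * 65 := by
      rw [← hk]; exact (Subgroup.card_dvd_of_le hFR).trans (hRcard.trans (by norm_num))
    exact (Nat.pow_dvd_pow_iff_le_right (by norm_num)).mp
      ((Nat.Coprime.pow_left k (by norm_num : Nat.Coprime 2 65)).dvd_of_dvd_mul_right h1)
  have h13 : ¬ 13 ∣ Nat.card R := by
    intro hd13
    haveI : Fact (Nat.Prime 13) := ⟨by norm_num⟩
    obtain ⟨g, hg⟩ := exists_prime_orderOf_dvd_card' (G := R) 13 hd13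
    set T := Subgroup.zpowers (g : G) with hT
    have hTc : IsPGroup 13 T := IsPGroup.of_card (n := 1) (by
      rw [hT, Nat.card_zpowers, Subgroup.orderOf_coe, hg, pow_one])
    letI : MulAction T F := MulAction.compHom F
      ((MulAut.conjNormal (H := F)).comp T.subtype)
    have hfix := hTc.card_modEq_card_fixedPoints F
    set C : Subgroup G := F ⊓ Subgroup.centralizer {(g : G)} with hC
    have hcard : Nat.card (MulAction.fixedPoints T F) = Nat.card C := by
      refine Nat.card_congr
        ⟨fun y => ⟨y.1, y.1.2, Subgroup.mem_centralizer_singleton_iff.mpr ?_⟩,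
          fun y => ⟨⟨y, y.2.1⟩, ?_⟩, fun y => rfl, fun y => rfl⟩
      · have e1 := congrArg Subtype.val (y.2 ⟨g, Subgroup.mem_zpowers _⟩)
        have e2 : (g : G) * y.1 * (g : G)⁻¹ = y.1 := e1
        first | exact mul_inv_eq_iff_eq_mul.mp e2 | exact (mul_inv_eq_iff_eq_mul.mp e2).symm
      · rintro ⟨t, l, rfl⟩
        refine Subtype.ext ?_
        show (g : G) ^ l * y * ((g : G) ^ l)⁻¹ = y
        have := (Subgroup.mem_centralizer_singleton_iff.mp y.2.2)
        rw [((show Commute (g : G) y from this.symm).zpow_left l).eq, mul_inv_cancel_right]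
    obtain ⟨i, -, hi⟩ := (Nat.dvd_prime_pow Nat.prime_two).mp
      (hk ▸ Subgroup.card_dvd_of_le (inf_le_left : C ≤ F))
    rw [hcard, hk, hi] at hfix
    have hi9 : i ≤ k := (Nat.pow_dvd_pow_iff_le_right (by norm_num : 1 < 2)).mp
      (hi ▸ hk ▸ Subgroup.card_dvd_of_le (inf_le_left : C ≤ F))
    have hik : i = k := two_pow_mod k (by omega) i (by omega) hi9 hfix
    have hCeq : C = F := Subgroup.eq_of_le_of_card_ge inf_le_left (by rw [hk, hi, hik])
    have hgF : (g : G) ∈ F := hCF g g.2 fun y hy =>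
      Subgroup.mem_centralizer_singleton_iff.mp (hCeq.ge hy).2 |>.symm
    obtain ⟨j, hj⟩ := IsPGroup.iff_orderOf.mp hFp ⟨g, hgF⟩
    rw [← Subgroup.orderOf_coe, Subgroup.orderOf_coe g, hg] at hj
    rcases Nat.eq_zero_or_pos j with rfl | hj0
    · norm_num at hj
    · have : 2 ∣ 13 := hj ▸ dvd_pow_self 2 hj0.ne'
      norm_num at this
  -- `R` is a two-group
  have hRF : R ≤ F := by
    set π := QuotientGroup.mk' F with hπ
    set Rb := R.map π with hRb
    haveI : Rb.Normal := h.normal.map π (QuotientGroup.mk'_surjective F)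
    suffices Rb = ⊥ by
      have := (Subgroup.map_eq_bot_iff _).mp this
      rwa [hπ, QuotientGroup.ker_mk'] at this
    have hRbcard : Nat.card Rb ∣ 2 ^ 9 * 5 := by
      have h1 : Nat.card Rb ∣ Nat.card R := R.card_map_dvd π
      have h2 : ¬ 13 ∣ Nat.card Rb := fun e => h13 (e.trans h1)
      exact ((((by norm_num : Nat.Prime 13).coprime_iff_not_dvd).mpr h2).symm).dvd_of_dvd_mul_right
        (h1.trans (hRcard.trans (by norm_num)))
    have two_le : ∀ N : Subgroup (G ⧸ F), N.Normal → N ≤ Rb → IsPGroup 2 N → N = ⊥ := by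
      intro N hN hNR hN2
      haveI := hN
      have h1 : N.comap π ≤ R := by
        refine (Subgroup.comap_mono hNR).trans ?_
        rw [hRb, Subgroup.comap_map_eq, hπ, QuotientGroup.ker_mk']
        exact sup_le le_rfl hFR
      have h2 : IsPGroup 2 (N.comap π) :=
        hN2.comap_of_ker_isPGroup π (by rw [hπ, QuotientGroup.ker_mk']; exact hFp)
      rw [← Subgroup.map_comap_eq_self_of_surjective (QuotientGroup.mk'_surjective F) N,
        Subgroup.map_eq_bot_iff, QuotientGroup.ker_mk']
      exact hle2 _ inferInstance h1 h2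
    by_contra hne
    haveI : Group.IsSolvable (G ⧸ F) :=
      solvable_of_surjective (QuotientGroup.mk'_surjective F)
    obtain ⟨p, N, hp, hN, hN0, hNR, hNc, hNp⟩ := Hall.exists_normal_abelian_pgroup_le (M := Rb) hne
    haveI := hN
    haveI : Fact p.Prime := ⟨hp⟩
    have hp5 : p = 5 := by
      obtain ⟨m, hm⟩ := IsPGroup.iff_card.mp hNp
      have hm0 : m ≠ 0 := fun e => hN0 (Subgroup.eq_bot_of_card_eq _ (by rw [hm, e, pow_zero]))
      have hd1 : p ∣ 2 ^ 9 * 5 := ((dvd_pow_self p hm0).trans (hm ▸ Subgroup.card_dvd_of_le hNR)).trans hRbcard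
      rcases hp.dvd_mul.mp hd1 with e | e
      · obtain rfl := (Nat.prime_dvd_prime_iff_eq hp Nat.prime_two).mp (hp.dvd_of_dvd_pow e)
        exact absurd (two_le N hN hNR hNp) hN0
      · exact (Nat.prime_dvd_prime_iff_eq hp (by norm_num)).mp e
    subst hp5
    have hN5 : Nat.card N = 5 := by
      obtain ⟨m, hm⟩ := IsPGroup.iff_card.mp hNp
      have h1 : 5 ^ m ∣ 2 ^ 9 * 5 := hm ▸ (Subgroup.card_dvd_of_le hNR).trans hRbcard
      have h2 : 5 ^ m ∣ 5 ^ 1 := by
        simpa using (Nat.Coprime.pow m 9 (by norm_num : Nat.Coprime 5 2)).dvd_of_dvd_mul_left h1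
      rcases (show m = 0 ∨ m = 1 by have := (Nat.pow_dvd_pow_iff_le_right (by norm_num)).mp h2; omega)
        with rfl | rfl
      · exact absurd (Subgroup.eq_bot_of_card_eq _ (by rw [hm, pow_zero])) hN0
      · rw [hm, pow_one]
    haveI : IsCyclic N := isCyclic_of_prime_card hN5
    set φ : G ⧸ F →* MulAut N := MulAut.conjNormal with hφ
    have hφR : ∀ r ∈ R, φ (π r) = 1 := by
      have : R ≤ (φ.comp π).ker := by
        conv_lhs => rw [← h.comm]
        refine Subgroup.commutator_le.mpr fun r _ y _ => ?_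
        rw [MonoidHom.mem_ker, map_commutatorElement, commutatorElement_eq_one_iff_mul_comm]
        exact mulAut_comm _ _
      exact fun r hr => this hr
    have hφb : φ (π b) = 1 := by
      have h1 : φ (π b) ^ 3 = 1 := by rw [← map_pow, ← map_pow, h.b_cube, map_one, map_one]
      have h2 : φ (π b) ^ 4 = 1 := by
        have h4 : Nat.card (MulAut N) = 4 := by
          rw [IsCyclic.card_mulAut, hN5]
          decide
        rw [← h4]; exact pow_card_eq_one'
      calc φ (π b) = φ (π b) ^ 4 * (φ (π b) ^ 3)⁻¹ := by rw [eq_mul_inv_iff_mul_eq, ← pow_succ']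
        _ = 1 := by rw [h1, h2, inv_one, mul_one]
    have hcenG : ∀ t, φ t = 1 := by
      intro t
      obtain ⟨g, rfl⟩ := QuotientGroup.mk'_surjective F t
      obtain ⟨r, hr, j, rfl⟩ := h.exists_mul g
      rw [map_mul, map_mul, hφR r hr, one_mul, map_zpow, map_zpow, hφb, one_zpow]
    have hNcen : ∀ n ∈ N, ∀ t, t * n = n * t := fun n hn t => by
      have := congrArg (fun ψ : MulAut N => ((ψ ⟨n, hn⟩ : N) : G ⧸ F)) (hcenG t)
      simp only [hφ, MulAut.conjNormal_apply, MulAut.one_apply] at this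
      exact mul_inv_eq_iff_eq_mul.mp this
    set T : Sylow 2 Rb := default with hT
    set Nb := N.subgroupOf Rb with hNb
    have hNb5 : Nat.card Nb = 5 := by
      rw [hNb, Nat.card_congr (Subgroup.subgroupOfEquivOfLe hNR).toEquiv, hN5]
    obtain ⟨j, hj⟩ := IsPGroup.iff_card.mp T.isPGroup'
    have htop : Subgroup.normalizer ((T : Subgroup Rb) : Set Rb) = ⊤ := by
      refine top_le_iff.mp (le_trans ?_ (sup_le Subgroup.le_normalizer
        (fun n hn => Subgroup.mem_normalizer_iff.mpr fun t => by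
          have e : n * t * n⁻¹ = t := Subtype.ext (by
            have := hNcen _ (Subgroup.mem_subgroupOf.mp hn) (t : G ⧸ F)
            simp only [Subgroup.coe_mul, Subgroup.coe_inv]
            rw [← this, mul_inv_cancel_right])
          rw [e]) : (T : Subgroup Rb) ⊔ Nb ≤ _))
      rw [top_le_iff]
      refine Subgroup.eq_top_of_card_eq _ ?_
      refine Nat.dvd_antisymm (Subgroup.card_subgroup_dvd_card _) ?_
      have h1 : Nat.card (T : Subgroup Rb) * Nat.card Nb ∣ Nat.card ↥((T : Subgroup Rb) ⊔ Nb) :=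
        Nat.Coprime.mul_dvd_of_dvd_of_dvd (by rw [hj, hNb5]; exact Nat.Coprime.pow_left j (by norm_num))
          (Subgroup.card_dvd_of_le le_sup_left) (Subgroup.card_dvd_of_le le_sup_right)
      refine dvd_trans ?_ h1
      have hT2 := T.card_eq_multiplicity
      have hb5 : Nat.card Rb ∣ 2 ^ (Nat.card Rb).factorization 2 * 5 := by
        obtain ⟨d1, d2, hd1, hd2, he⟩ := exists_dvd_and_dvd_of_dvd_mul hRbcard
        obtain ⟨i, -, rfl⟩ := (Nat.dvd_prime_pow Nat.prime_two).mp hd1
        rcases (Nat.dvd_prime (by norm_num)).mp hd2 with rfl | rfl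
        · rw [he]; simp [Nat.factorization_pow, Nat.Prime.factorization_self Nat.prime_two]
        · rw [he]
          simp [Nat.factorization_mul, Nat.factorization_pow,
            Nat.Prime.factorization_self Nat.prime_two,
            Nat.Prime.factorization (by norm_num : Nat.Prime 5)]
      rw [hT2, hNb5]
      exact hb5
    haveI : (T : Subgroup Rb).Normal := Subgroup.normalizer_eq_top_iff.mp htop
    haveI : (T : Subgroup Rb).Characteristic := T.characteristic_of_normal inferInstance
    have hT1 := two_le _ (Cores.normal_map_subtype Rb (T : Subgroup Rb)) (Subgroup.map_subtype_le _)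
      (T.isPGroup'.map _)
    rw [Subgroup.map_eq_bot_iff_of_injective _ Rb.subtype_injective] at hT1
    have hRN : Rb ≤ N := by
      have h2 : (T : Subgroup Rb) ⊔ Nb = ⊤ ∨ True := Or.inr trivial
      have hnd : ¬ 2 ∣ Nat.card Rb := fun e => by
        have := T.dvd_card_of_dvd_card e
        rw [hT1, Subgroup.card_bot] at this
        norm_num at this
      have h5 : Nat.card Rb ∣ 5 :=
        (Nat.Coprime.pow_right 9 ((Nat.prime_two.coprime_iff_not_dvd).mpr hnd).symm).dvd_of_dvd_mul_left hRbcard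
      exact (Subgroup.eq_of_le_of_card_ge hNR (by rw [hN5]; exact Nat.le_of_dvd (by norm_num) h5)).ge
    refine hne (eq_bot_iff.mpr ?_)
    refine ((congrArg (fun K => K.map π) h.comm.symm).trans
      (Subgroup.map_commutator R (Subgroup.zpowers b) π)).le.trans ?_
    exact Subgroup.commutator_le.mpr fun r hr t _ => by
      rw [Subgroup.mem_bot, commutatorElement_eq_one_iff_mul_comm]
      exact (hNcen r (hRN hr) t).symm
  -- the four-group and scalars form an abelian normal subgroup
  set Z := scal σ ⊓ R with hZ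
  set A := h.fourHom.range ⊔ Z with hA
  have hVR : h.fourHom.range ≤ R := by rintro _ ⟨p, rfl⟩; exact h.fourHom_mem p
  have hAR : A ≤ R := sup_le hVR inf_le_right
  haveI : A.Normal := by
    rw [← Subgroup.normalizer_eq_top_iff, eq_top_iff, ← h.gen]
    refine sup_le (fun r hr => ?_) (Subgroup.zpowers_le.mpr ?_)
    · refine mem_normalizer_of_conj_le r fun a ha => ?_
      have e : r * a * r⁻¹ = ⁅r, a⁆ * a := by rw [commutatorElement_def]; group
      rw [e]
      refine mul_mem (Subgroup.mem_sup_right ⟨hcom r (hRF hr) a (hRF (hAR ha)), ?_⟩) ha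
      exact hFR (by
        rw [commutatorElement_def]
        exact mul_mem (mul_mem (mul_mem (hRF hr) (hRF (hAR ha))) (inv_mem (hRF hr))) (inv_mem (hRF (hAR ha))))
    · refine mem_normalizer_of_conj_le b ?_
      show A ≤ A.comap (MulAut.conj b).toMonoidHom
      refine sup_le ?_ fun z hz => ?_
      · rintro _ ⟨⟨s, t⟩, rfl⟩
        have hV : ∀ p, b * h.fourHom p * b⁻¹ ∈ A := by
          rintro ⟨s, t⟩
          have e1 : h.fourHom (Multiplicative.ofAdd 1, 1) = q := by simp [Setup.fourHom, ofSq]
          have e2 : h.fourHom (1, Multiplicative.ofAdd 1) = b * q * b⁻¹ := by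
            simp [Setup.fourHom, ofSq]
          have m1 : b * h.fourHom (s, 1) * b⁻¹ ∈ A := by
            rcases two_cases s with rfl | rfl
            · rw [← Prod.one_eq_mk, map_one, mul_one, mul_inv_cancel]; exact one_mem _
            · rw [e1, ← e2]; exact Subgroup.mem_sup_left ⟨_, rfl⟩
          have m2 : b * h.fourHom (1, t) * b⁻¹ ∈ A := by
            rcases two_cases t with rfl | rfl
            · rw [← Prod.one_eq_mk, map_one, mul_one, mul_inv_cancel]; exact one_mem _
            · rw [e2, h.q_conj, ← e2]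
              exact mul_mem (Subgroup.mem_sup_left ⟨_, e1⟩) (Subgroup.mem_sup_left ⟨_, rfl⟩)
          have e : h.fourHom (s, t) = h.fourHom (s, 1) * h.fourHom (1, t) := by
            rw [← map_mul]; simp
          rw [e, show b * (h.fourHom (s, 1) * h.fourHom (1, t)) * b⁻¹
            = b * h.fourHom (s, 1) * b⁻¹ * (b * h.fourHom (1, t) * b⁻¹) by group]
          exact mul_mem m1 m2
        exact hV (s, t)
      · show b * z * b⁻¹ ∈ A
        rw [← h.scal_central hz.1 b, mul_inv_cancel_right]
        exact Subgroup.mem_sup_right hz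
  have hAc : A ≤ Subgroup.centralizer (A : Set G) := by
    rw [Subgroup.le_centralizer_iff]
    refine sup_le ?_ fun z hz => Subgroup.mem_centralizer_iff.mpr fun a _ =>
      (h.scal_central hz.1 a).symm
    rw [Subgroup.le_centralizer_iff]
    refine sup_le ?_ fun z hz => Subgroup.mem_centralizer_iff.mpr fun a _ =>
      (h.scal_central hz.1 a).symm
    rintro _ ⟨p, rfl⟩
    refine Subgroup.mem_centralizer_iff.mpr ?_
    rintro _ ⟨p', rfl⟩
    rw [← map_mul, ← map_mul, mul_comm]
  refine h.q_not_scal (hsc A inferInstance hAR (fun a ha a' ha' =>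
    Subgroup.mem_centralizer_iff.mp (hAc ha') a ha) ?_)
  exact Subgroup.mem_sup_left ⟨(Multiplicative.ofAdd 1, 1), by simp [Setup.fourHom, ofSq]⟩

end Setup

end Cfsg.Agent.Lib.RankTwoBlock
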