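import Cfsg.Agent.Lib.RankTwoBlock.Setup

/-!
# Monomial data of a three-prime group extended by a three-cycle
-/

set_option autoImplicit false

namespace Cfsg.Agent.Lib.RankTwoBlock

universe v w w'

variable {G : Type v} [Group G]

/-- A faithful transitive monomial action with signs, `b` moving exactly three points. -/
structure Mono (R : Subgroup G) (b : G) (Ω : Type w) where
  π : G →* Equiv.Perm Ω
  s : G → Ω → ℤˣ
  s_mul : ∀ g k x, s (g * k) x = s g (π k x) * s k x
  inj : ∀ g, π g = 1 → (∀ x, s g x = 1) → g = 1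
  trans : ∀ x y, ∃ g, π g x = y
  three : ∃ a, π b a ≠ a ∧ π b (π b a) ≠ a ∧
    ∀ z, z ≠ a → z ≠ π b a → z ≠ π b (π b a) → π b z = z
  center : ∀ z ∈ R, (∀ r ∈ R, z * r = r * z) → π z = 1

/-- Transport along an equivalence. -/
def Mono.congr {R : Subgroup G} {b : G} {Ω : Type w} {Ω' : Type w'} (M : Mono R b Ω) (e : Ω ≃ Ω') :
    Mono R b Ω' where
  π := (e.permCongrHom : Equiv.Perm Ω ≃* Equiv.Perm Ω').toMonoidHom.comp M.π
  s g x := M.s g (e.symm x)
  s_mul g k x := by
    rw [M.s_mul]
    simp
  inj g hp hs := M.inj g (e.permCongrHom.injective (hp.trans (map_one _).symm)) fun x => by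
    simpa using hs (e x)
  trans x y := by
    obtain ⟨g, hg⟩ := M.trans (e.symm x) (e.symm y)
    exact ⟨g, by simp [hg]⟩
  three := by
    obtain ⟨a, h1, h2, h3⟩ := M.three
    refine ⟨e a, by simpa using h1, by simpa using h2, fun z z1 z2 z3 => ?_⟩
    have := h3 (e.symm z) (fun h => z1 (by rw [← h, e.apply_symm_apply]))
      (fun h => z2 (by simp [← h])) (fun h => z3 (by simp [← h]))
    simp [this]
  center z hz hr := by
    refine Equiv.ext fun x => ?_
    simp [M.center z hz hr]

end Cfsg.Agent.Lib.RankTwoBlock
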