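import Mathlib

/-!
# An operator of order three with a single Jordan block of size three over `ZMod 3`

`orbit`: a subspace with three independent translates is a line, and their sum carries the whole
range of `β - 1`.  `Four`: a four-group permuted by `β`.  `quat_bound`: a quaternion pair permuted by
`β` forces dimension at most four.
-/

set_option autoImplicit false

namespace Cfsg.Agent.Lib.RankTwoBlock

open Module

universe u

variable {E : Type u} [AddCommGroup E] [Module (ZMod 3) E] [FiniteDimensional (ZMod 3) E]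

/-- `β ^ 3 = 1`, `β - 1` of rank two and its square of rank one. -/
structure IsBlock (β : Module.End (ZMod 3) E) : Prop where
  cube : β ^ 3 = 1
  rk1 : finrank (ZMod 3) (LinearMap.range (β - 1)) = 2
  rk2 : finrank (ZMod 3) (LinearMap.range ((β - 1) ^ 2)) = 1

variable {β : Module.End (ZMod 3) E}

omit [FiniteDimensional (ZMod 3) E] in
theorem three_smul_zero (x : E) : x + x + x = 0 := by
  have h : (3 : ZMod 3) • x = 0 := by rw [show (3 : ZMod 3) = 0 from rfl, zero_smul]
  rw [show (3 : ZMod 3) = 1 + 1 + 1 from rfl, add_smul, add_smul, one_smul] at h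
  exact h

omit [FiniteDimensional (ZMod 3) E] in
theorem neg_eq_double (x : E) : -x = x + x :=
  neg_eq_iff_add_eq_zero.mpr (by rw [← add_assoc]; exact three_smul_zero x)

omit [FiniteDimensional (ZMod 3) E] in
theorem eq_zero_of_double {x : E} (h : x + x = 0) : x = 0 := by
  have := three_smul_zero x
  rwa [h, zero_add] at this

theorem IsBlock.injective (hβ : IsBlock β) : Function.Injective β := by
  refine Function.LeftInverse.injective (g := (β ^ 2 : Module.End (ZMod 3) E)) fun x => ?_
  rw [← Module.End.mul_apply, ← pow_succ, hβ.cube, Module.End.one_apply]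

theorem IsBlock.sq_apply (x : E) : ((β - 1) ^ 2 : Module.End (ZMod 3) E) x = x + β x + β (β x) := by
  rw [sq, Module.End.mul_apply, LinearMap.sub_apply, LinearMap.sub_apply, Module.End.one_apply, Module.End.one_apply,
    map_sub]
  have h : -(β x) = β x + β x := neg_eq_double _
  rw [show β (β x) - β x - (β x - x) = β (β x) + (-(β x)) + (-(β x)) + x by abel, h]
  have h3 := three_smul_zero (β x)
  calc β (β x) + (β x + β x) + (β x + β x) + x
      = (β x + β x + β x) + (x + β x + β (β x)) := by abel
    _ = _ := by rw [h3, zero_add]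

theorem IsBlock.orbit (hβ : IsBlock β) (U : Submodule (ZMod 3) E)
    (hind : ∀ u ∈ U, ∀ v ∈ U, ∀ w ∈ U, u + β v + β (β w) = 0 → u = 0 ∧ v = 0 ∧ w = 0)
    (hU : U ≠ ⊥) :
    finrank (ZMod 3) U = 1 ∧ LinearMap.range (β - 1) ≤ U ⊔ U.map β ⊔ (U.map β).map β := by
  obtain ⟨u, hu, hu0⟩ := U.exists_mem_ne_zero_of_ne_bot hU
  have hinj : Function.Injective
      (((β - 1) ^ 2).rangeRestrict.comp U.subtype) := by
    rw [← LinearMap.ker_eq_bot, LinearMap.ker_eq_bot']
    rintro ⟨v, hv⟩ h
    have h' := congrArg Subtype.val h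
    simp only [LinearMap.coe_comp, Function.comp_apply, Submodule.coe_subtype,
      LinearMap.codRestrict_apply, ZeroMemClass.coe_zero] at h'
    erw [IsBlock.sq_apply] at h'
    exact Subtype.ext (hind v hv v hv v hv h').1
  have h1 := LinearMap.finrank_le_finrank_of_injective hinj
  rw [hβ.rk2] at h1
  have h2 : 0 < finrank (ZMod 3) U := Module.finrank_pos_iff_exists_ne_zero.mpr
    ⟨⟨u, hu⟩, fun h => hu0 (congrArg Subtype.val h)⟩
  refine ⟨by omega, ?_⟩
  set a : E := (β - 1) u with ha
  set b : E := (β - 1) (β u) with hb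
  have hli : LinearIndependent (ZMod 3) ![a, b] := by
    refine LinearIndependent.pair_iff.mpr fun s t hst => ?_
    have e : (-s) • u + β ((s - t) • u) + β (β (t • u)) = 0 := by
      rw [← hst, ha, hb]
      simp only [LinearMap.sub_apply, Module.End.one_apply, map_smul, smul_sub, sub_smul, neg_smul,
        map_sub]
      abel
    obtain ⟨e1, -, e3⟩ := hind _ (U.smul_mem _ hu) _ (U.smul_mem _ hu) _ (U.smul_mem _ hu) e
    rw [smul_eq_zero] at e1 e3
    exact ⟨by simpa using e1.resolve_right hu0, e3.resolve_right hu0⟩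
  have hle : Submodule.span (ZMod 3) (Set.range ![a, b]) ≤ LinearMap.range (β - 1) := by
    rw [Submodule.span_le]
    rintro _ ⟨i, rfl⟩
    fin_cases i <;> exact LinearMap.mem_range_self _ _
  have heq : Submodule.span (ZMod 3) (Set.range ![a, b]) = LinearMap.range (β - 1) :=
    Submodule.eq_of_le_of_finrank_eq hle (by
      rw [finrank_span_eq_card hli, hβ.rk1, Fintype.card_fin])
  rw [← heq, Submodule.span_le]
  rintro _ ⟨i, rfl⟩
  have m0 : u ∈ U ⊔ U.map β ⊔ (U.map β).map β := Submodule.mem_sup_left (Submodule.mem_sup_left hu)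
  have m1 : β u ∈ U ⊔ U.map β ⊔ (U.map β).map β :=
    Submodule.mem_sup_left (Submodule.mem_sup_right (Submodule.mem_map_of_mem hu))
  have m2 : β (β u) ∈ U ⊔ U.map β ⊔ (U.map β).map β :=
    Submodule.mem_sup_right (Submodule.mem_map_of_mem (Submodule.mem_map_of_mem hu))
  fin_cases i
  · exact Submodule.sub_mem _ m1 m0
  · exact Submodule.sub_mem _ m2 m1

/-- Two commuting involutions permuted cyclically with their product by `β`. -/
structure Four (β t t' : Module.End (ZMod 3) E) : Prop where
  sq : t * t = 1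
  sq' : t' * t' = 1
  comm : t * t' = t' * t
  conj : β * t = t' * β
  conj' : β * t' = t * t' * β

namespace Four

variable {t t' : Module.End (ZMod 3) E}

/-- The vectors fixed by `t` and negated by `t'`. -/
def line (t t' : Module.End (ZMod 3) E) : Submodule (ZMod 3) E where
  carrier := {x | t x = x ∧ t' x = -x}
  add_mem' := fun ⟨a, b⟩ ⟨c, d⟩ => ⟨by rw [map_add, a, c], by rw [map_add, b, d, neg_add]⟩
  zero_mem' := ⟨map_zero _, by rw [map_zero, neg_zero]⟩
  smul_mem' := fun k x ⟨a, b⟩ => ⟨by rw [map_smul, a], by rw [map_smul, b, smul_neg]⟩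

/-- The vectors fixed by both. -/
def fix (t t' : Module.End (ZMod 3) E) : Submodule (ZMod 3) E where
  carrier := {x | t x = x ∧ t' x = x}
  add_mem' := fun ⟨a, b⟩ ⟨c, d⟩ => ⟨by rw [map_add, a, c], by rw [map_add, b, d]⟩
  zero_mem' := ⟨map_zero _, map_zero _⟩
  smul_mem' := fun k x ⟨a, b⟩ => ⟨by rw [map_smul, a], by rw [map_smul, b]⟩

omit [FiniteDimensional (ZMod 3) E] in
theorem t_apply_beta (h : Four β t t') (x : E) : t (β x) = β (t (t' x)) := by
  have h1 : β * (t * t') = t * β := by
    rw [← mul_assoc, h.conj, mul_assoc, h.conj', ← mul_assoc, ← mul_assoc, ← h.comm, mul_assoc t,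
      h.sq', mul_one]
  simpa [Module.End.mul_apply] using (LinearMap.congr_fun h1 x).symm

omit [FiniteDimensional (ZMod 3) E] in
theorem t'_apply_beta (h : Four β t t') (x : E) : t' (β x) = β (t x) := by
  simpa [Module.End.mul_apply] using (LinearMap.congr_fun h.conj x).symm

omit [FiniteDimensional (ZMod 3) E] in
theorem tt (h : Four β t t') (x : E) : t (t x) = x := by
  simpa [Module.End.mul_apply] using LinearMap.congr_fun h.sq x

omit [FiniteDimensional (ZMod 3) E] in
theorem tt' (h : Four β t t') (x : E) : t' (t' x) = x := by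
  simpa [Module.End.mul_apply] using LinearMap.congr_fun h.sq' x

omit [FiniteDimensional (ZMod 3) E] in
theorem t'_t (h : Four β t t') (x : E) : t' (t x) = t (t' x) := by
  simpa [Module.End.mul_apply] using (LinearMap.congr_fun h.comm x).symm

omit [FiniteDimensional (ZMod 3) E] in
/-- Where `t` is not trivial, the line meets an invariant subspace. -/
theorem exists_line (h : Four β t t') (Y : Submodule (ZMod 3) E) (hY : ∀ y ∈ Y, t y ∈ Y)
    (hY' : ∀ y ∈ Y, t' y ∈ Y) (hYβ : ∀ y ∈ Y, β y ∈ Y) (hinj : Function.Injective β)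
    {y : E} (hy : y ∈ Y) (hne : t y ≠ y) : ∃ x ∈ Y, x ≠ 0 ∧ x ∈ line t t' := by
  set z := y - t y with hz
  have hz0 : z ≠ 0 := fun e => hne (sub_eq_zero.mp e).symm
  have hzY : z ∈ Y := Y.sub_mem hy (hY y hy)
  have htz : t z = -z := by rw [hz, map_sub, h.tt, neg_sub]
  by_cases hp : z + t' z = 0
  · have ht'z : t' z = -z := eq_neg_of_add_eq_zero_right hp
    refine ⟨β z, hYβ z hzY, fun e => hz0 (hinj (e.trans (map_zero β).symm)), ?_, ?_⟩
    · rw [t_apply_beta h, ht'z, map_neg, htz, neg_neg]
    · rw [t'_apply_beta h, htz, map_neg]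
  · set w := z + t' z with hw
    have hwY : w ∈ Y := Y.add_mem hzY (hY' z hzY)
    have htw : t w = -w := by rw [hw, map_add, htz, ← h.t'_t, htz, map_neg, neg_add]
    have ht'w : t' w = w := by rw [hw, map_add, h.tt', add_comm]
    have h1 : t (β w) = -β w := by rw [t_apply_beta h, ht'w, htw, map_neg]
    have h2 : t' (β w) = -β w := by rw [t'_apply_beta h, htw, map_neg]
    refine ⟨β (β w), hYβ _ (hYβ w hwY),
      fun e => hp (hinj ((hinj (e.trans (map_zero β).symm)).trans (map_zero β).symm)), ?_, ?_⟩
    · rw [t_apply_beta h, h2, map_neg, h1, neg_neg]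
    · rw [t'_apply_beta h, h1, map_neg]

theorem line_ne_bot (h : Four β t t') (hβ : IsBlock β) (hne : t ≠ 1) : line t t' ≠ ⊥ := by
  obtain ⟨y, hy⟩ : ∃ y, t y ≠ y := by
    by_contra hc
    push Not at hc
    exact hne (LinearMap.ext hc)
  obtain ⟨x, -, hx0, hx⟩ := exists_line h ⊤ (fun _ _ => trivial) (fun _ _ => trivial)
    (fun _ _ => trivial) hβ.injective (Submodule.mem_top (x := y)) hy
  exact fun e => hx0 ((Submodule.mem_bot (ZMod 3)).mp (e ▸ hx))

theorem line_ind (h : Four β t t') (hβ : IsBlock β) : ∀ u ∈ line t t', ∀ v ∈ line t t',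
    ∀ w ∈ line t t', u + β v + β (β w) = 0 → u = 0 ∧ v = 0 ∧ w = 0 := by
  intro u hu v hv w hw e
  have hv1 : t (β v) = -β v := by rw [t_apply_beta h, hv.2, map_neg, hv.1, map_neg]
  have hv2 : t' (β v) = β v := by rw [t'_apply_beta h, hv.1]
  have hw0 : t (β w) = -β w := by rw [t_apply_beta h, hw.2, map_neg, hw.1, map_neg]
  have hw0' : t' (β w) = β w := by rw [t'_apply_beta h, hw.1]
  have hw1 : t (β (β w)) = -β (β w) := by rw [t_apply_beta h, hw0', hw0, map_neg]
  have hw2 : t' (β (β w)) = -β (β w) := by rw [t'_apply_beta h, hw0, map_neg]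
  have e1 := congrArg t e
  rw [map_add, map_add, hu.1, hv1, hw1, map_zero] at e1
  have hu0 : u = 0 := eq_zero_of_double (by
    calc u + u = (u + β v + β (β w)) + (u + -β v + -β (β w)) := by abel
      _ = 0 := by rw [e, e1, add_zero])
  subst hu0
  rw [zero_add] at e
  have e2 := congrArg t' e
  rw [map_add, hv2, hw2, map_zero] at e2
  have hv0 : β v = 0 := eq_zero_of_double (by
    calc β v + β v = (β v + β (β w)) + (β v + -β (β w)) := by abel
      _ = 0 := by rw [e, e2, add_zero])
  rw [hv0, zero_add] at e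
  exact ⟨rfl, hβ.injective (hv0.trans (map_zero β).symm),
    hβ.injective ((hβ.injective (e.trans (map_zero β).symm)).trans (map_zero β).symm)⟩

/-- The range of `β - 1` is negated somewhere, so it meets the fixed vectors in zero. -/
theorem eq_zero_of_range_of_fix (h : Four β t t') (hβ : IsBlock β) (hne : t ≠ 1) {x : E}
    (hx : x ∈ LinearMap.range (β - 1)) (hf : x ∈ fix t t') : x = 0 := by
  obtain ⟨u', hu', m, hm, hxe⟩ := Submodule.mem_sup.mp
    ((hβ.orbit _ (line_ind h hβ) (line_ne_bot h hβ hne)).2 hx)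
  obtain ⟨u, hu, v', hv', hue⟩ := Submodule.mem_sup.mp hu'
  obtain ⟨v, hv, rfl⟩ := Submodule.mem_map.mp hv'
  obtain ⟨_, ⟨w, hw, rfl⟩, rfl⟩ := Submodule.mem_map.mp hm
  subst hue
  subst hxe
  have hv1 : t (β v) = -β v := by rw [t_apply_beta h, hv.2, map_neg, hv.1, map_neg]
  have hv2 : t' (β v) = β v := by rw [t'_apply_beta h, hv.1]
  have hw0 : t (β w) = -β w := by rw [t_apply_beta h, hw.2, map_neg, hw.1, map_neg]
  have hw0' : t' (β w) = β w := by rw [t'_apply_beta h, hw.1]
  have hw1 : t (β (β w)) = -β (β w) := by rw [t_apply_beta h, hw0', hw0, map_neg]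
  have hw2 : t' (β (β w)) = -β (β w) := by rw [t'_apply_beta h, hw0, map_neg]
  have e1 := hf.1
  rw [map_add, map_add, hu.1, hv1, hw1] at e1
  have hs : β v + β (β w) = 0 := eq_zero_of_double (by
    calc (β v + β (β w)) + (β v + β (β w))
        = (u + β v + β (β w)) - (u + -β v + -β (β w)) := by abel
      _ = 0 := sub_eq_zero.mpr e1.symm)
  have e2 := hf.2
  rw [map_add, map_add, hu.2, hv2, hw2] at e2
  have hu2 : u + β (β w) = 0 := eq_zero_of_double (by
    calc (u + β (β w)) + (u + β (β w))
        = (u + β v + β (β w)) - (-u + β v + -β (β w)) := by abel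
      _ = 0 := sub_eq_zero.mpr e2.symm)
  obtain ⟨hu0, -, hw0''⟩ := line_ind h hβ u hu 0 (Submodule.zero_mem _) w hw
    (by rw [map_zero, add_zero]; exact hu2)
  rw [hu0, hw0'', map_zero, map_zero, add_zero, zero_add]
  rw [hw0'', map_zero, map_zero, add_zero] at hs
  exact hs

/-- `β` fixes the vectors fixed by the four-group. -/
theorem apply_fix (h : Four β t t') (hβ : IsBlock β) (hne : t ≠ 1) {x : E} (hf : x ∈ fix t t') :
    β x = x := by
  refine sub_eq_zero.mp (eq_zero_of_range_of_fix h hβ hne ⟨x, rfl⟩ (Submodule.sub_mem _ ?_ hf))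
  exact ⟨by rw [t_apply_beta h, hf.2, hf.1], by rw [t'_apply_beta h, hf.1]⟩

/-- With an element exchanging the eigenspaces of `t`, the dimension is at most four. -/
theorem finrank_le (h : Four β t t') (hβ : IsBlock β) (hne : t ≠ 1) (y : E ≃ₗ[ZMod 3] E)
    (hy : ∀ x, t (y x) = -y (t x)) : finrank (ZMod 3) E ≤ 4 := by
  set U := line t t' with hU
  have hU1 := (hβ.orbit _ (line_ind h hβ) (line_ne_bot h hβ hne)).1
  set P : Submodule (ZMod 3) E := LinearMap.ker (t - 1) with hP
  set M : Submodule (ZMod 3) E := LinearMap.ker (t + 1) with hM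
  have memP : ∀ x, x ∈ P ↔ t x = x := fun x => by
    rw [hP, LinearMap.mem_ker, LinearMap.sub_apply, Module.End.one_apply, sub_eq_zero]
  have memM : ∀ x, x ∈ M ↔ t x = -x := fun x => by
    rw [hM, LinearMap.mem_ker, LinearMap.add_apply, Module.End.one_apply, eq_neg_iff_add_eq_zero]
  have hmapβ : ∀ S : Submodule (ZMod 3) E, finrank (ZMod 3) (S.map β) ≤ finrank (ZMod 3) S :=
    fun S => Submodule.finrank_map_le _ _
  have hMle : finrank (ZMod 3) M ≤ 2 := by
    have hsub : M ≤ U.map β ⊔ (U.map β).map β := by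
      intro x hx
      rw [memM] at hx
      have htp : t' (x + t' x) = x + t' x := by rw [map_add, h.tt', add_comm]
      have htpm : t (x + t' x) = -(x + t' x) := by rw [map_add, hx, ← h.t'_t, hx, map_neg, neg_add]
      have hmm : t' (x - t' x) = -(x - t' x) := by rw [map_sub, h.tt', neg_sub]
      have hmmm : t (x - t' x) = -(x - t' x) := by
        rw [map_sub, hx, ← h.t'_t, hx, map_neg]; abel
      have hb1 : t (β (x + t' x)) = -β (x + t' x) := by rw [t_apply_beta h, htp, htpm, map_neg]
      have hb2 : t' (β (x + t' x)) = -β (x + t' x) := by rw [t'_apply_beta h, htpm, map_neg]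
      have hl1 : β (β (x + t' x)) ∈ U :=
        ⟨by rw [t_apply_beta h, hb2, map_neg, hb1, neg_neg],
          by rw [t'_apply_beta h, hb1, map_neg]⟩
      have hl2 : β (x - t' x) ∈ U :=
        ⟨by rw [t_apply_beta h, hmm, map_neg, hmmm, neg_neg],
          by rw [t'_apply_beta h, hmmm, map_neg]⟩
      have hc : ∀ z, β (β (β z)) = z := fun z => by
        simpa [pow_succ, Module.End.mul_apply] using LinearMap.congr_fun hβ.cube z
      have e1 : x + t' x ∈ U.map β := ⟨_, hl1, hc _⟩
      have e2 : x - t' x ∈ (U.map β).map β := ⟨_, ⟨_, hl2, rfl⟩, hc _⟩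
      have : x = -((x + t' x) + (x - t' x)) := by
        rw [show (x + t' x) + (x - t' x) = x + x by abel, ← neg_eq_double, neg_neg]
      rw [this]
      exact Submodule.neg_mem _ (Submodule.add_mem_sup e1 e2)
    calc finrank (ZMod 3) M ≤ finrank (ZMod 3) ↥(U.map β ⊔ (U.map β).map β) :=
          Submodule.finrank_mono hsub
      _ ≤ finrank (ZMod 3) (U.map β) + finrank (ZMod 3) ((U.map β).map β) :=
          Submodule.finrank_add_le_finrank_add_finrank _ _
      _ ≤ 1 + 1 := Nat.add_le_add ((hmapβ U).trans hU1.le)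
          (((hmapβ _).trans (hmapβ U)).trans hU1.le)
  have hPM : finrank (ZMod 3) P ≤ finrank (ZMod 3) M := by
    rw [← LinearEquiv.finrank_map_eq y P]
    refine Submodule.finrank_mono ?_
    rintro _ ⟨x, hx, rfl⟩
    rw [memM]
    show t (y x) = -y x
    rw [hy, (memP x).mp hx]
  have htop : (⊤ : Submodule (ZMod 3) E) ≤ P ⊔ M := by
    intro x _
    have : x = -((x + t x) + (x - t x)) := by
      rw [show (x + t x) + (x - t x) = x + x by abel, ← neg_eq_double, neg_neg]
    rw [this]
    exact Submodule.neg_mem _ (Submodule.add_mem_sup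
      ((memP _).mpr (by rw [map_add, h.tt, add_comm]))
      ((memM _).mpr (by rw [map_sub, h.tt, neg_sub])))
  have := (Submodule.finrank_mono htop).trans (Submodule.finrank_add_le_finrank_add_finrank P M)
  rw [finrank_top] at this
  omega

end Four

/-- Two anticommuting square roots of `-1`, permuted with their negative product by `β`. -/
theorem quat_bound (hβ : IsBlock β) {i j : Module.End (ZMod 3) E} (hi : i * i = -1)
    (hj : j * j = -1) (hji : j * i = -(i * j)) (c1 : β * i = j * β)
    (c2 : β * j = -(i * j) * β) : finrank (ZMod 3) E ≤ 4 := by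
  set n : Module.End (ZMod 3) E := -(i + j - i * j) with hn
  have h3 : (3 : Module.End (ZMod 3) E) = 0 := by
    refine LinearMap.ext fun x => ?_
    rw [show (3 : Module.End (ZMod 3) E) = 1 + 1 + 1 by norm_num, LinearMap.add_apply,
      LinearMap.add_apply, Module.End.one_apply, LinearMap.zero_apply]
    exact three_smul_zero x
  have hiij : i * (i * j) = -j := by rw [← mul_assoc, hi, neg_one_mul]
  have hiji : i * j * i = j := by
    rw [mul_assoc, hji, mul_neg, hiij, neg_neg]
  have hjij : j * (i * j) = i := by rw [← mul_assoc, hji, neg_mul, mul_assoc, hj, mul_neg_one, neg_neg]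
  have hijj : i * j * j = -i := by rw [mul_assoc, hj, mul_neg_one]
  have hijij : i * j * (i * j) = -1 := by rw [← mul_assoc, hiji, hj]
  have hni : n * i + i * n = -1 := by
    simp only [hn, neg_mul, mul_neg, add_mul, mul_add, sub_mul, mul_sub, hi, hji, hiji, hiij]
    linear_combination (norm := noncomm_ring) (1 : Module.End (ZMod 3) E) * h3
  have hnn : n * n = 0 := by
    simp only [hn, neg_mul, mul_neg, neg_neg, add_mul, mul_add, sub_mul, mul_sub, hi, hj, hji,
      hiji, hiij, hjij, hijj, hijij]
    linear_combination (norm := noncomm_ring) (-1 : Module.End (ZMod 3) E) * h3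
  -- `μ` commutes with `i` and `n`
  set μ : Module.End (ZMod 3) E := (1 - n) * β with hμ
  have hβn : β * n = n * β := by
    have c3 : β * (i * j) = -i * β := by
      rw [← mul_assoc, c1, mul_assoc, c2, ← mul_assoc, mul_neg, hjij]
    simp only [hn, mul_neg, neg_mul, mul_add, mul_sub, add_mul, sub_mul, c1, c2, c3]
    abel
  have hμn : μ * n = n * μ := by
    rw [hμ, mul_assoc, hβn, ← mul_assoc, ← mul_assoc, sub_mul, mul_sub, one_mul, mul_one]
  have hμi : μ * i = i * μ := by
    rw [hμ, mul_assoc, c1, ← mul_assoc, ← mul_assoc]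
    congr 1
    simp only [hn, sub_mul, mul_sub, add_mul, mul_add, neg_mul, mul_neg, one_mul, mul_one, hi, hj,
      hji, hiij, hijj]
    abel
  have hβμ : β = (1 + n) * μ := by
    rw [hμ, ← mul_assoc, show (1 + n) * (1 - n) = 1 by
      rw [add_mul, mul_sub, mul_sub, hnn, one_mul, one_mul, mul_one]; abel, one_mul]
  set K : Submodule (ZMod 3) E := LinearMap.ker n with hK
  have memK : ∀ x, x ∈ K ↔ n x = 0 := fun x => by rw [hK, LinearMap.mem_ker]
  have hnmem : ∀ x, n x ∈ K := fun x => (memK _).mpr (by
    simpa [Module.End.mul_apply] using LinearMap.congr_fun hnn x)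
  have hanti : ∀ x, n (i x) + i (n x) = -x := fun x => by
    simpa [Module.End.mul_apply] using LinearMap.congr_fun hni x
  have hμK : ∀ x ∈ K, μ x ∈ K := fun x hx => (memK _).mpr (by
    have := LinearMap.congr_fun hμn x
    simp only [Module.End.mul_apply] at this
    rw [← this, (memK x).mp hx, map_zero])
  have happ : ∀ x, β x = μ x + n (μ x) := fun x => by
    rw [hβμ]; simp [Module.End.mul_apply]
  have hμi' : ∀ x, μ (i x) = i (μ x) := fun x => by
    simpa [Module.End.mul_apply] using LinearMap.congr_fun hμi x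
  -- vectors fixed by `μ` in `K` lie in the range
  have hfix : ∀ y ∈ K, μ y = y → y ∈ LinearMap.range (β - 1) := by
    intro y hy hμy
    refine ⟨-i y, ?_⟩
    rw [LinearMap.sub_apply, Module.End.one_apply, happ, map_neg, hμi', hμy, map_neg]
    have := hanti y
    rw [(memK y).mp hy, map_zero, add_zero] at this
    rw [this]; abel
  have hmov : ∀ y ∈ K, μ y - y ∈ LinearMap.range (β - 1) := by
    intro y hy
    refine ⟨y, ?_⟩
    rw [LinearMap.sub_apply, Module.End.one_apply, happ, (memK _).mp (hμK y hy), add_zero]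
  obtain ⟨y₁, hy₁, hne₁⟩ : ∃ y ∈ K, μ y ≠ y := by
    by_contra hc
    push Not at hc
    have hμ1 : ∀ x, μ x = x := by
      intro x
      have e : x = -(n (i x) + i (n x)) := by rw [hanti, neg_neg]
      rw [e, map_neg, map_add, hc _ (hnmem _), hμi', hc _ (hnmem _)]
    have hz : (β - 1) ^ 2 = 0 := by
      have : β - 1 = n := LinearMap.ext fun x => by
        rw [LinearMap.sub_apply, Module.End.one_apply, happ, hμ1]; abel
      rw [this, sq, hnn]
    have := hβ.rk2
    rw [hz, LinearMap.range_zero, finrank_bot] at this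
    exact zero_ne_one this
  set ν : K →ₗ[ZMod 3] K :=
    (μ.restrict hμK) - LinearMap.id with hν
  have hνapp : ∀ y : K, ((ν y : K) : E) = μ y - y := fun y => by simp [hν]
  -- a vector of the range outside `K`
  set z : E := (β - 1) (i y₁) with hz
  have hzK : z ∉ K := by
    intro h
    apply hne₁
    have h1 : n z = -(μ y₁ - y₁) := by
      rw [hz, LinearMap.sub_apply, Module.End.one_apply, happ, hμi', map_sub, map_add,
        (memK _).mp (hnmem _), add_zero, ← map_sub, ← map_sub]
      have := hanti (μ y₁ - y₁)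
      rw [(memK _).mp (Submodule.sub_mem _ (hμK y₁ hy₁) hy₁), map_zero, add_zero] at this
      exact this
    rw [(memK z).mp h] at h1
    exact sub_eq_zero.mp (neg_eq_zero.mp h1.symm)
  set Kr : Submodule (ZMod 3) E := K ⊓ LinearMap.range (β - 1) with hKr
  have hlt : finrank (ZMod 3) Kr < 2 := by
    rw [← hβ.rk1]
    refine Submodule.finrank_lt_finrank_of_lt (lt_of_le_of_ne inf_le_right fun e => hzK ?_)
    have : z ∈ LinearMap.range (β - 1) := ⟨_, rfl⟩
    rw [← e] at this
    exact this.1
  have hker : finrank (ZMod 3) (LinearMap.ker ν) ≤ 1 := by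
    have hinj : Function.Injective (Submodule.inclusion (p := (LinearMap.ker ν).map K.subtype)
        (p' := Kr) (by
          rintro _ ⟨y, hy, rfl⟩
          refine ⟨y.2, hfix _ y.2 ?_⟩
          have := congrArg (Subtype.val) (LinearMap.mem_ker.mp hy)
          rw [hνapp, ZeroMemClass.coe_zero] at this
          exact sub_eq_zero.mp this)) := Submodule.inclusion_injective _
    have := LinearMap.finrank_le_finrank_of_injective hinj
    rw [Submodule.finrank_map_subtype_eq] at this
    omega
  have hrng : finrank (ZMod 3) (LinearMap.range ν) ≤ 1 := by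
    have hinj : Function.Injective (Submodule.inclusion (p := (LinearMap.range ν).map K.subtype)
        (p' := Kr) (by
          rintro _ ⟨y', ⟨y, rfl⟩, rfl⟩
          refine ⟨(ν y).2, ?_⟩
          show ((ν y : K) : E) ∈ _
          rw [hνapp]
          exact hmov _ y.2)) := Submodule.inclusion_injective _
    have := LinearMap.finrank_le_finrank_of_injective hinj
    rw [Submodule.finrank_map_subtype_eq] at this
    omega
  have hK2 := LinearMap.finrank_range_add_finrank_ker ν
  have htop : (⊤ : Submodule (ZMod 3) E) ≤ K ⊔ K.map i := by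
    intro x _
    rw [show x = -(n (i x) + i (n x)) by rw [hanti, neg_neg]]
    exact Submodule.neg_mem _ (Submodule.add_mem_sup (hnmem _) ⟨_, hnmem x, rfl⟩)
  have := (Submodule.finrank_mono htop).trans (Submodule.finrank_add_le_finrank_add_finrank K _)
  rw [finrank_top] at this
  have := Submodule.finrank_map_le i K
  omega

end Cfsg.Agent.Lib.RankTwoBlock
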