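import Cfsg.Agent.Lib.RankTwoBlock.CaseScalar
import Cfsg.Agent.Lib.FusionP3.GenExtra.Iso

/-!
# From a faithful module to the irreducible summand moved by `R`
-/

set_option autoImplicit false

open Module
open scoped commutatorElement

namespace Cfsg.Agent.Lib.RankTwoBlock

universe u v

/-- The irreducible step. -/
theorem Setup.concl {G : Type v} [Group G] [Group.IsSolvable G] {W : Type u} [AddCommGroup W]
    [Module (ZMod 3) W] [FiniteDimensional (ZMod 3) W] {σ : G →* Module.End (ZMod 3) W}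
    {R : Subgroup G} {b q : G} (h : Setup σ R b q) : Concl R := by
  haveI := h.finite
  by_contra hn
  refine h.scalar_absurd fun A hA hAR hc => ?_
  haveI := hA
  rcases scalar_or_mono h hAR hc with hs | ⟨Ω, hΩ, ⟨M⟩, h3⟩
  · exact fun a ha => hs a ha
  · exact absurd (h.concl_of_mono M h3) hn

variable {S : Type v} [Group S] [Finite S]

theorem Concl.of_subgroupOf {H R : Subgroup S} (hRH : R ≤ H) (h : Concl (R.subgroupOf H)) :
    Concl R := by
  haveI : Fact (Nat.Prime 2) := ⟨Nat.prime_two⟩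
  let e := Subgroup.subgroupOfEquivOfLe hRH
  rcases h with ⟨⟨hc, hx⟩, h4⟩ | ⟨hx, h32, A, hA, ⟨hAc, hA2⟩, h8⟩
  · refine Or.inl ⟨⟨⟨⟨fun x y => Subtype.ext ?_⟩⟩, fun x hx' => ?_⟩, by
      rw [← Nat.card_congr e.toEquiv, h4]⟩
    · have := congrArg (fun z : R.subgroupOf H => ((z : H) : S))
        (hc.is_comm.comm (e.symm x) (e.symm y))
      exact this
    · have := congrArg (fun z : H => (z : S)) (hx ⟨x, hRH hx'⟩ hx')
      simpa using this
  · refine Or.inr ⟨FusionP3.GenExtra.isExtraspecial_congr e hx,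
      by rw [← Nat.card_congr e.toEquiv, h32], A.map H.subtype, ?_, ⟨?_, ?_⟩, ?_⟩
    · rintro _ ⟨a, ha, rfl⟩
      exact hA ha
    · refine ⟨⟨?_⟩⟩
      rintro ⟨_, a, ha, rfl⟩ ⟨_, c, hc, rfl⟩
      exact Subtype.ext (congrArg (fun z : A => ((z : H) : S)) (hAc.is_comm.comm ⟨a, ha⟩ ⟨c, hc⟩))
    · rintro _ ⟨a, ha, rfl⟩
      rw [← map_pow, hA2 a ha, map_one]
    · rw [Subgroup.card_map_of_injective H.subtype_injective, h8]

variable {E : Type u} [AddCommGroup E] [Module (ZMod 3) E] [Finite E]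

/-- `R = [R, b]` splits off a faithful irreducible summand. -/
theorem main [Group.IsSolvable S] (ρ : S →* Module.End (ZMod 3) E) (hfaith : Function.Injective ρ)
    {R : Subgroup S} {b q : S} (hbR : b ∈ Subgroup.normalizer (R : Set S))
    (hcop : ¬ 3 ∣ Nat.card R) (hcomm : ⁅R, Subgroup.zpowers b⁆ = R) (hβ : IsBlock (ρ b))
    (hq : q ∈ R) (hq2 : q * q = 1) (hqc : q * (b * q * b⁻¹) = b * q * b⁻¹ * q)
    (hqj : b * (b * q * b⁻¹) * b⁻¹ = q * (b * q * b⁻¹)) (hqn : b * q * b⁻¹ ≠ q) :
    Concl R ∧ ∃ F₀ F₁ : Submodule (ZMod 3) E, F₀ ⊓ F₁ = ⊥ ∧ F₀ ⊔ F₁ = ⊤ ∧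
      (∀ r ∈ R, ∀ v ∈ F₁, ρ r v = v) ∧
      (∀ r ∈ R ⊔ Subgroup.zpowers b, ∀ v ∈ F₀, ρ r v ∈ F₀) ∧
      (∀ r ∈ R ⊔ Subgroup.zpowers b, (∀ v ∈ F₀, ρ r v = v) → r = 1) ∧
      (∀ N : Submodule (ZMod 3) E, N ≤ F₀ →
        (∀ r ∈ R ⊔ Subgroup.zpowers b, ∀ v ∈ N, ρ r v ∈ N) → N = ⊥ ∨ N = F₀) := by
  classical
  haveI : FiniteDimensional (ZMod 3) E := Module.Finite.of_finite
  haveI : Fintype R := Fintype.ofFinite R
  have hq1 : q ≠ 1 := fun e => hqn (by rw [e, mul_one, mul_inv_cancel])
  have hq'mem : b * q * b⁻¹ ∈ R := (Subgroup.mem_normalizer_iff.mp hbR q).mp hq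
  have hfour : Four (ρ b) (ρ q) (ρ (b * q * b⁻¹)) :=
    { sq := by rw [← map_mul, hq2, map_one]
      sq' := by
        rw [← map_mul, show b * q * b⁻¹ * (b * q * b⁻¹) = b * (q * q) * b⁻¹ by group, hq2]
        simp
      comm := by rw [← map_mul, hqc, map_mul]
      conj := by rw [← map_mul, ← map_mul, inv_mul_cancel_right]
      conj' := by rw [← map_mul ρ b, ← map_mul, ← map_mul, ← hqj, inv_mul_cancel_right] }
  have hqρ : ρ q ≠ 1 := fun e => hq1 (hfaith (e.trans (map_one ρ).symm))
  -- the averaging projection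
  set c : ZMod 3 := ((Nat.card R : ℕ) : ZMod 3)⁻¹ with hc
  have hc0 : ((Nat.card R : ℕ) : ZMod 3) ≠ 0 := fun e =>
    hcop ((CharP.cast_eq_zero_iff (ZMod 3) 3 _).mp e)
  haveI : Fact (Nat.Prime 3) := ⟨Nat.prime_three⟩
  set av : Module.End (ZMod 3) E := c • ∑ r : R, ρ r with hav
  have hav' : ∀ x, av x = c • ∑ r : R, ρ r x := fun x => by
    rw [hav, LinearMap.smul_apply, LinearMap.sum_apply]
  have hRav : ∀ r ∈ R, ∀ x, ρ r (av x) = av x := fun r hr x => by
    rw [hav', map_smul, map_sum]
    refine congrArg (c • ·) (Fintype.sum_equiv (Equiv.mulLeft ⟨r, hr⟩) _ _ fun k => ?_)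
    show ρ r (ρ k x) = ρ (r * k) x
    rw [map_mul, Module.End.mul_apply]
  have hfixav : ∀ x, (∀ r ∈ R, ρ r x = x) → av x = x := fun x hx => by
    rw [hav', Finset.sum_congr rfl fun (r : R) _ => hx r r.2, Finset.sum_const, Finset.card_univ,
      ← Nat.card_eq_fintype_card, ← Nat.cast_smul_eq_nsmul (ZMod 3), smul_smul, hc,
      inv_mul_cancel₀ hc0, one_smul]
  have havcomm : ∀ g ∈ Subgroup.normalizer (R : Set S), ∀ x, av (ρ g x) = ρ g (av x) := by
    intro g hg x
    rw [hav', hav', map_smul, map_sum]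
    refine congrArg (c • ·) (Fintype.sum_equiv
      ({ toFun := fun r => ⟨g⁻¹ * r * g,
           (Subgroup.mem_normalizer_iff''.mp hg r).mp r.2⟩
         invFun := fun r => ⟨g * r * g⁻¹, (Subgroup.mem_normalizer_iff.mp hg r).mp r.2⟩
         left_inv := fun r => Subtype.ext (by simp [mul_assoc])
         right_inv := fun r => Subtype.ext (by simp [mul_assoc]) } : R ≃ R) _ _ fun r => ?_)
    show ρ r (ρ g x) = ρ g (ρ (g⁻¹ * r * g) x)
    rw [← Module.End.mul_apply, ← map_mul, ← Module.End.mul_apply, ← map_mul]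
    congr 2; group
  set F1 : Submodule (ZMod 3) E := LinearMap.range av with hF1
  set F0 : Submodule (ZMod 3) E := LinearMap.ker av with hF0
  have h1fix : ∀ r ∈ R, ∀ v ∈ F1, ρ r v = v := by
    rintro r hr _ ⟨x, rfl⟩; exact hRav r hr x
  have h1b : ∀ v ∈ F1, ρ b v = v := fun v hv =>
    hfour.apply_fix hβ hqρ ⟨h1fix q hq v hv, h1fix _ hq'mem v hv⟩
  have havav : ∀ x, av (av x) = av x := fun x => hfixav _ fun r hr => hRav r hr x
  have hsub : ∀ x, x - av x ∈ F0 := fun x => by
    rw [hF0, LinearMap.mem_ker, map_sub, havav, sub_self]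
  have hinf : F0 ⊓ F1 = ⊥ := by
    rw [eq_bot_iff]
    rintro x ⟨h0, y, rfl⟩
    rw [Submodule.mem_bot, ← havav]
    exact LinearMap.mem_ker.mp h0
  have hsup : F0 ⊔ F1 = ⊤ := eq_top_iff.mpr fun x _ =>
    Submodule.mem_sup.mpr ⟨x - av x, hsub x, av x, ⟨x, rfl⟩, sub_add_cancel x _⟩
  set H := R ⊔ Subgroup.zpowers b with hH
  have hHn : H ≤ Subgroup.normalizer (R : Set S) :=
    sup_le Subgroup.le_normalizer (Subgroup.zpowers_le.mpr hbR)
  have h0inv : ∀ g ∈ H, ∀ v ∈ F0, ρ g v ∈ F0 := fun g hg v hv => by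
    rw [hF0, LinearMap.mem_ker, havcomm g (hHn hg), LinearMap.mem_ker.mp hv, map_zero]
  let St : Subgroup S :=
    { carrier := {g | ∀ v ∈ F1, ρ g v = v}
      mul_mem' := fun {g k} hg hk v hv => by
        rw [map_mul, Module.End.mul_apply, hk v hv, hg v hv]
      one_mem' := fun v _ => by rw [map_one, Module.End.one_apply]
      inv_mem' := fun {g} hg v hv => by
        conv_lhs => rw [← hg v hv]
        exact inv_apply_apply ρ g v }
  have hHst : H ≤ St := sup_le (fun r hr => h1fix r hr) (Subgroup.zpowers_le.mpr h1b)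
  have h0faith : ∀ g ∈ H, (∀ v ∈ F0, ρ g v = v) → g = 1 := fun g hg hv => by
    refine hfaith (LinearMap.ext fun x => ?_)
    rw [map_one, Module.End.one_apply]
    conv_lhs => rw [← sub_add_cancel x (av x), map_add, hv _ (hsub x),
      hHst hg _ ⟨x, rfl⟩, sub_add_cancel]
  -- the restricted action
  let σ : H →* Module.End (ZMod 3) F0 :=
    { toFun := fun g => (ρ (g : S)).restrict fun v hv => h0inv g g.2 v hv
      map_one' := LinearMap.ext fun v => Subtype.ext (by
        show ρ ((1 : H) : S) (v : E) = v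
        rw [OneMemClass.coe_one, map_one, Module.End.one_apply])
      map_mul' := fun g k => LinearMap.ext fun v => Subtype.ext (by
        show ρ ((g * k : H) : S) (v : E) = ρ g (ρ k v)
        rw [Subgroup.coe_mul, map_mul, Module.End.mul_apply]) }
  have hσ : ∀ g v, ((σ g v : F0) : E) = ρ (g : S) v := fun g v => rfl
  have hbH : b ∈ H := Subgroup.mem_sup_right (Subgroup.mem_zpowers b)
  set bH : H := ⟨b, hbH⟩ with hbH'
  set qH : H := ⟨q, Subgroup.mem_sup_left hq⟩ with hqH'
  set RH := R.subgroupOf H with hRH'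
  haveI hRn : RH.Normal := Subgroup.normal_subgroupOf_iff_le_normalizer_inf.mpr
    (by rw [inf_eq_left.mpr (le_sup_left : R ≤ H)]; exact hHn)
  have hmap : RH.map H.subtype = R := Subgroup.map_subgroupOf_eq_of_le le_sup_left
  have hgen : RH ⊔ Subgroup.zpowers bH = ⊤ := by
    refine Subgroup.map_injective H.subtype_injective ?_
    rw [Subgroup.map_sup, hmap, MonoidHom.map_zpowers, ← MonoidHom.range_eq_map,
      Subgroup.range_subtype]
    rfl
  have hcommH : ⁅RH, Subgroup.zpowers bH⁆ = RH := by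
    refine Subgroup.map_injective H.subtype_injective ?_
    rw [Subgroup.map_commutator, hmap, MonoidHom.map_zpowers]
    exact hcomm
  -- `C` normal containing `b` contains `R`
  have hkill : ∀ C : Subgroup H, C.Normal → bH ∈ C → RH ≤ C := fun C hC hb => by
    rw [← hcommH]
    exact Subgroup.commutator_le.mpr fun x _ y hy => by
      obtain ⟨k, rfl⟩ := hy
      rw [commutatorElement_def]
      exact mul_mem (hC.conj_mem _ (zpow_mem hb k) x) (inv_mem (zpow_mem hb k))
  set β' := σ bH with hβ'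
  have hNapp : ∀ v, ((((β' - 1) v) : F0) : E) = (ρ b - 1) (v : E) := fun v => rfl
  have hrange1 : (LinearMap.range (β' - 1)).map F0.subtype = LinearMap.range (ρ b - 1) := by
    refine le_antisymm ?_ ?_
    · rintro _ ⟨_, ⟨v, rfl⟩, rfl⟩; exact ⟨v, (hNapp v).symm⟩
    · rintro _ ⟨x, rfl⟩
      refine ⟨(β' - 1) ⟨_, hsub x⟩, ⟨_, rfl⟩, ?_⟩
      show (ρ b - 1) (x - av x) = (ρ b - 1) x
      rw [map_sub, LinearMap.sub_apply (ρ b) 1 (av x), Module.End.one_apply, h1b _ ⟨x, rfl⟩,
        sub_self, sub_zero]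
  have hrange2 : (LinearMap.range ((β' - 1) ^ 2)).map F0.subtype
      = LinearMap.range ((ρ b - 1) ^ 2) := by
    rw [sq, sq, Module.End.mul_eq_comp, Module.End.mul_eq_comp, LinearMap.range_comp,
      LinearMap.range_comp, ← hrange1, ← Submodule.map_comp, ← Submodule.map_comp]
    congr 1
  have hσfaith : Function.Injective σ := by
    refine (injective_iff_map_eq_one σ).mpr fun g hg => Subtype.ext (h0faith g g.2 fun v hv => ?_)
    exact congrArg Subtype.val (LinearMap.congr_fun hg ⟨v, hv⟩)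
  have hirr : ∀ U : Submodule (ZMod 3) E, U ≤ F0 → (∀ g ∈ H, ∀ v ∈ U, ρ g v ∈ U) →
      U = ⊥ ∨ U = F0 := by
    intro U hU hUinv
    by_cases htriv : ∀ u ∈ U, ρ q u = u
    · left
      have hUb : ∀ u ∈ U, ρ b u = u := by
        intro u hu
        refine hfour.apply_fix hβ hqρ ⟨htriv u hu, ?_⟩
        have := htriv (ρ b⁻¹ u) (hUinv _ (inv_mem hbH) u hu)
        rw [map_mul, map_mul, Module.End.mul_apply, Module.End.mul_apply, this,
          apply_inv_apply]
      let C : Subgroup H :=
        { carrier := {g | ∀ v ∈ U, ρ (g : S) v = v}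
          mul_mem' := fun {g k} hg hk v hv => by
            rw [Subgroup.coe_mul, map_mul, Module.End.mul_apply, hk v hv, hg v hv]
          one_mem' := fun v _ => by rw [OneMemClass.coe_one, map_one, Module.End.one_apply]
          inv_mem' := fun {g} hg v hv => by
            conv_lhs => rw [← hg v hv]
            exact inv_apply_apply ρ (g : S) v }
      have hC : C.Normal := ⟨fun c hc g v hv => by
        rw [Subgroup.coe_mul, Subgroup.coe_mul, map_mul, map_mul, Module.End.mul_apply,
          Module.End.mul_apply, hc _ (hUinv _ (g⁻¹ : H).2 v hv), Subgroup.coe_inv,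
          apply_inv_apply]⟩
      have hRU := hkill C hC hUb
      rw [eq_bot_iff]
      intro u hu
      have h1 : av u = u := hfixav u fun r hr => hRU (x := ⟨r, Subgroup.mem_sup_left hr⟩) hr u hu
      rw [Submodule.mem_bot, ← h1, LinearMap.mem_ker.mp (hU hu)]
    · right
      push Not at htriv
      obtain ⟨y, hy, hy'⟩ := htriv
      obtain ⟨x, hxU, hx0, hxl⟩ := hfour.exists_line U (hUinv q (Subgroup.mem_sup_left hq))
        (hUinv _ (Subgroup.mem_sup_left hq'mem)) (hUinv b hbH) hβ.injective hy hy'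
      obtain ⟨hl1, hlr⟩ := hβ.orbit _ (hfour.line_ind hβ) (hfour.line_ne_bot hβ hqρ)
      have hline : Four.line (ρ q) (ρ (b * q * b⁻¹)) ≤ U := by
        intro z hz
        obtain ⟨a, ha⟩ := (finrank_eq_one_iff_of_nonzero' (⟨x, hxl⟩ : Four.line (ρ q) _)
          (fun e => hx0 (congrArg Subtype.val e))).mp hl1 ⟨z, hz⟩
        rw [show z = a • x from (congrArg Subtype.val ha).symm]
        exact U.smul_mem a hxU
      have hmap' : ∀ T : Submodule (ZMod 3) E, T ≤ U → T.map (ρ b) ≤ U := by
        rintro T hT _ ⟨v, hv, rfl⟩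
        exact hUinv b hbH v (hT hv)
      have hN : ∀ x, ρ b x - x ∈ U := fun x =>
        (sup_le (sup_le hline (hmap' _ hline)) (hmap' _ (hmap' _ hline))) (hlr ⟨x, rfl⟩)
      let C : Subgroup H :=
        { carrier := {g | ∀ x, x ∈ F0 → ρ (g : S) x - x ∈ U}
          mul_mem' := fun {g k} hg hk x hx => by
            rw [Subgroup.coe_mul, map_mul, Module.End.mul_apply,
              show ρ (g : S) (ρ (k : S) x) - x
                = (ρ (g : S) (ρ (k : S) x) - ρ (k : S) x) + (ρ (k : S) x - x) by abel]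
            exact U.add_mem (hg _ (h0inv _ k.2 x hx)) (hk x hx)
          one_mem' := fun x _ => by
            rw [OneMemClass.coe_one, map_one, Module.End.one_apply, sub_self]; exact U.zero_mem
          inv_mem' := fun {g} hg x hx => by
            have h2 := hg _ (h0inv _ (g⁻¹ : H).2 x hx)
            rw [Subgroup.coe_inv, apply_inv_apply] at h2
            rw [Subgroup.coe_inv, ← neg_sub]
            exact U.neg_mem h2 }
      have hC : C.Normal := ⟨fun c hc g x hx => by
        have h2 := hUinv _ g.2 _ (hc _ (h0inv _ (g⁻¹ : H).2 x hx))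
        rw [map_sub, Subgroup.coe_inv, apply_inv_apply] at h2
        rw [Subgroup.coe_mul, Subgroup.coe_mul, map_mul, map_mul, Module.End.mul_apply,
          Module.End.mul_apply, Subgroup.coe_inv]
        exact h2⟩
      have hRU := hkill C hC fun x _ => hN x
      refine le_antisymm hU fun x hx => ?_
      have h0 : av x = 0 := LinearMap.mem_ker.mp hx
      have e : x = c • ∑ r : R, (x - ρ r x) := by
        rw [Finset.sum_sub_distrib, smul_sub, ← hav', h0, sub_zero, Finset.sum_const,
          Finset.card_univ, ← Nat.card_eq_fintype_card, ← Nat.cast_smul_eq_nsmul (ZMod 3),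
          smul_smul, hc, inv_mul_cancel₀ hc0, one_smul]
      rw [e]
      refine U.smul_mem _ (U.sum_mem fun r _ => ?_)
      rw [← neg_sub]
      exact U.neg_mem (hRU (x := ⟨r, Subgroup.mem_sup_left r.2⟩) r.2 x hx)
  have hSetup : Setup σ RH bH qH :=
    { faith := hσfaith
      irred := fun N hN => by
        have h1 := hirr (N.map F0.subtype) (Submodule.map_subtype_le F0 N) (by
          rintro g hg _ ⟨v, hv, rfl⟩
          exact ⟨σ ⟨g, hg⟩ v, hN _ v hv, rfl⟩)
        rcases h1 with h1 | h1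
        · exact Or.inl (Submodule.map_injective_of_injective F0.subtype_injective (by
            rw [h1, Submodule.map_bot]))
        · exact Or.inr (Submodule.map_injective_of_injective F0.subtype_injective (by
            rw [h1, Submodule.map_top, Submodule.range_subtype]))
      normal := hRn
      gen := hgen
      coprime := by rwa [Nat.card_congr (Subgroup.subgroupOfEquivOfLe le_sup_left).toEquiv]
      comm := hcommH
      block :=
        { cube := by
            refine LinearMap.ext fun v => Subtype.ext ?_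
            have := LinearMap.congr_fun hβ.cube (v : E)
            simpa [pow_succ, Module.End.mul_apply, hσ, hβ'] using this
          rk1 := by rw [← Submodule.finrank_map_subtype_eq, hrange1, hβ.rk1]
          rk2 := by rw [← Submodule.finrank_map_subtype_eq, hrange2, hβ.rk2] }
      q_mem := hq
      q_sq := Subtype.ext hq2
      q_comm := Subtype.ext hqc
      q_conj := Subtype.ext hqj
      q_ne := fun e => hqn (congrArg Subtype.val e) }
  exact ⟨Concl.of_subgroupOf le_sup_left hSetup.concl, F0, F1, hinf, hsup, h1fix, h0inv, h0faith,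
    hirr⟩

end Cfsg.Agent.Lib.RankTwoBlock
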