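import Cfsg.Agent.Lib.RankTwoBlock.Op
import Cfsg.Prelude.Def_Transfer

/-!
# A three-prime group extended by an element of order three, acting irreducibly over `ZMod 3`

`Setup σ R b q`: `G = R⟨b⟩`, `R = [R, b]`, `σ` faithful irreducible with `σ b` a single block,
and `q` generating with its conjugates a four-group in `R`.
-/

set_option autoImplicit false

open scoped commutatorElement

namespace Cfsg.Agent.Lib.RankTwoBlock

universe u v

variable {G : Type v} [Group G] {W : Type u} [AddCommGroup W] [Module (ZMod 3) W]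

/-- The hypotheses of the irreducible step. -/
structure Setup (σ : G →* Module.End (ZMod 3) W) (R : Subgroup G) (b q : G) : Prop where
  faith : Function.Injective σ
  irred : ∀ N : Submodule (ZMod 3) W, (∀ g, ∀ v ∈ N, σ g v ∈ N) → N = ⊥ ∨ N = ⊤
  normal : R.Normal
  gen : R ⊔ Subgroup.zpowers b = ⊤
  coprime : ¬ 3 ∣ Nat.card R
  comm : ⁅R, Subgroup.zpowers b⁆ = R
  block : IsBlock (σ b)
  q_mem : q ∈ R
  q_sq : q * q = 1
  q_comm : q * (b * q * b⁻¹) = b * q * b⁻¹ * q
  q_conj : b * (b * q * b⁻¹) * b⁻¹ = q * (b * q * b⁻¹)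
  q_ne : b * q * b⁻¹ ≠ q

/-- The conclusion about `R`. -/
def Concl (R : Subgroup G) : Prop :=
  (Cfsg.IsElementaryAbelian 2 R ∧ Nat.card R = 4) ∨
    (Cfsg.IsExtraspecial 2 R ∧ Nat.card R = 32 ∧
      ∃ A : Subgroup G, A ≤ R ∧ Cfsg.IsElementaryAbelian 2 A ∧ Nat.card A = 8)

variable {σ : G →* Module.End (ZMod 3) W} {R : Subgroup G} {b q : G}

theorem inv_apply_apply (σ : G →* Module.End (ZMod 3) W) (g : G) (x : W) :
    σ g⁻¹ (σ g x) = x := by
  rw [← Module.End.mul_apply, ← map_mul, inv_mul_cancel, map_one, Module.End.one_apply]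

theorem apply_inv_apply (σ : G →* Module.End (ZMod 3) W) (g : G) (x : W) :
    σ g (σ g⁻¹ x) = x := by
  rw [← Module.End.mul_apply, ← map_mul, mul_inv_cancel, map_one, Module.End.one_apply]

theorem sigma_injective (σ : G →* Module.End (ZMod 3) W) (g : G) : Function.Injective (σ g) :=
  Function.LeftInverse.injective (g := σ g⁻¹) (inv_apply_apply σ g)

namespace Setup

variable (h : Setup σ R b q)
include h

theorem b_cube : b ^ 3 = 1 := h.faith (by rw [map_pow, h.block.cube, map_one])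

theorem exists_mul (g : G) : ∃ r ∈ R, ∃ k : ℤ, g = r * b ^ k := by
  haveI := h.normal
  obtain ⟨r, hr, y, ⟨k, rfl⟩, rfl⟩ := Subgroup.mem_sup_of_normal_left.mp
    (h.gen ▸ Subgroup.mem_top g : g ∈ R ⊔ Subgroup.zpowers b)
  exact ⟨r, hr, k, rfl⟩

theorem conj_div_mem (g k : G) : g * b * g⁻¹ * (k * b * k⁻¹)⁻¹ ∈ R := by
  have key : ∀ g : G, g * b * g⁻¹ * b⁻¹ ∈ R := fun g => by
    obtain ⟨r, hr, j, rfl⟩ := h.exists_mul g
    have e : r * b ^ j * b * (r * b ^ j)⁻¹ * b⁻¹ = r * (b * r⁻¹ * b⁻¹) := by group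
    rw [e]
    exact mul_mem hr (h.normal.conj_mem _ (inv_mem hr) b)
  have e : g * b * g⁻¹ * (k * b * k⁻¹)⁻¹ = g * b * g⁻¹ * b⁻¹ * (k * b * k⁻¹ * b⁻¹)⁻¹ := by group
  rw [e]
  exact mul_mem (key g) (inv_mem (key k))

/-- Homomorphisms to commutative groups kill `R`. -/
theorem map_eq_one {M : Type*} [CommGroup M] (f : G →* M) {r : G} (hr : r ∈ R) : f r = 1 := by
  have : ⁅R, Subgroup.zpowers b⁆ ≤ f.ker := Subgroup.commutator_le.mpr fun x _ y _ => by
    rw [MonoidHom.mem_ker, map_commutatorElement, commutatorElement_eq_one_iff_mul_comm,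
      mul_comm]
  rw [h.comm] at this
  exact this hr

/-- What `b` centralises together with `R` is everything. -/
theorem le_of_conj_mem (C : Subgroup G) [C.Normal] (hb : b ∈ C) : R ≤ C := by
  rw [← h.comm]
  exact Subgroup.commutator_le.mpr fun x _ y hy => by
    obtain ⟨k, rfl⟩ := hy
    rw [commutatorElement_def]
    exact mul_mem (Subgroup.Normal.conj_mem ‹_› _ (zpow_mem hb k) x) (inv_mem (zpow_mem hb k))

theorem q_ne_one : q ≠ 1 := fun e => h.q_ne (by rw [e, mul_one, mul_inv_cancel])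

theorem qconj_mem : b * q * b⁻¹ ∈ R := h.normal.conj_mem _ h.q_mem b

theorem four : Four (σ b) (σ q) (σ (b * q * b⁻¹)) where
  sq := by rw [← map_mul, h.q_sq, map_one]
  sq' := by
    rw [← map_mul, show b * q * b⁻¹ * (b * q * b⁻¹) = b * (q * q) * b⁻¹ by group, h.q_sq]
    simp
  comm := by rw [← map_mul, h.q_comm, map_mul]
  conj := by rw [← map_mul, ← map_mul, inv_mul_cancel_right]
  conj' := by
    rw [← map_mul σ b, ← map_mul, ← map_mul]
    congr 1
    rw [← h.q_conj, inv_mul_cancel_right]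

theorem sigma_q_ne_one : σ q ≠ 1 := fun e => h.q_ne_one (h.faith (e.trans (map_one σ).symm))

theorem nontrivial : Nontrivial W := by
  by_contra hn
  rw [not_nontrivial_iff_subsingleton] at hn
  exact h.sigma_q_ne_one (LinearMap.ext fun x => Subsingleton.elim _ _)

theorem finite [Module.Finite (ZMod 3) W] : Finite G :=
  haveI : Finite W := Module.finite_of_finite (ZMod 3)
  haveI : Finite (Module.End (ZMod 3) W) := Finite.of_injective _ DFunLike.coe_injective
  Finite.of_injective σ h.faith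

end Setup

end Cfsg.Agent.Lib.RankTwoBlock
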